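import Cfsg.Agent.GW.Linear.Pairs
import Cfsg.Agent.GW.CaseI.Main
import Cfsg.Agent.TwoSolv.Product

/-!
# Gorenstein–Walter, linear characters: `D = 1`

In case (I) a nontrivial linear character of `D` forces `q = 5`, and then the principal block has a
faithful character of degree three, which makes `U` abelian and `D` normal in `G`.
-/

set_option autoImplicit false
set_option linter.style.haveILetI false
set_option linter.unusedSectionVars false

namespace CfsgLib.GW.CaseI.Ctx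

open Cfsg Finset CfsgLib.Block CfsgLib.Block.Chr CfsgLib.Char CfsgLib.GW.Linear
open scoped ComplexConjugate
open CfsgLib.DGroup (conj_mem odd_orderOf)

universe u

/-- The combinatorics of three orthogonal sign vectors orthogonal to the degrees. -/
theorem four_signs {ι : Type*} (s : Finset ι) (hs : s.card = 4) (c₀ c₁ c₂ d : ι → ℤ)
    (h0 : ∀ i ∈ s, c₀ i = 1 ∨ c₀ i = -1) (h1 : ∀ i ∈ s, c₁ i = 1 ∨ c₁ i = -1)
    (h2 : ∀ i ∈ s, c₂ i = 1 ∨ c₂ i = -1)
    (h01 : ∑ i ∈ s, c₀ i * c₁ i = 0) (h02 : ∑ i ∈ s, c₀ i * c₂ i = 0)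
    (h12 : ∑ i ∈ s, c₁ i * c₂ i = 0)
    (hd0 : ∑ i ∈ s, c₀ i * d i = 0) (hd1 : ∑ i ∈ s, c₁ i * d i = 0)
    (hd2 : ∑ i ∈ s, c₂ i * d i = 0) :
    ∃ T : ℤ, ∀ i ∈ s, 4 * d i = c₀ i * c₁ i * c₂ i * T := by
  classical
  refine ⟨∑ j ∈ s, d j * (c₀ j * c₁ j * c₂ j), fun i hi => ?_⟩
  have sq : ∀ {c : ι → ℤ}, (∀ i ∈ s, c i = 1 ∨ c i = -1) → ∀ j ∈ s, c j * c j = 1 :=
    fun hc j hj => by rcases hc j hj with e | e <;> rw [e] <;> norm_num
  set p : ι → ℤ := fun j => c₀ j * c₁ j
  set q : ι → ℤ := fun j => c₀ j * c₂ j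
  have hp : ∀ j ∈ s, p j = 1 ∨ p j = -1 := fun j hj => by
    rcases h0 j hj with e | e <;> rcases h1 j hj with e' | e' <;> simp [p, e, e']
  have hq : ∀ j ∈ s, q j = 1 ∨ q j = -1 := fun j hj => by
    rcases h0 j hj with e | e <;> rcases h2 j hj with e' | e' <;> simp [q, e, e']
  set w : ι → ℤ := fun j => (1 + p i * p j) * (1 + q i * q j) with hw
  have hnn : ∀ j ∈ s, 0 ≤ w j := fun j hj => by
    rcases hp i hi with e1 | e1 <;> rcases hp j hj with e2 | e2 <;>
      rcases hq i hi with e3 | e3 <;> rcases hq j hj with e4 | e4 <;> simp [w, e1, e2, e3, e4]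
  have hpq : ∑ j ∈ s, p j * q j = 0 := by
    rw [← h12]; refine sum_congr rfl fun j hj => ?_
    calc p j * q j = c₀ j * c₀ j * (c₁ j * c₂ j) := by simp only [p, q]; ring
      _ = _ := by rw [sq h0 j hj, one_mul]
  have hsum : ∑ j ∈ s, w j = 4 := by
    have e : ∀ j ∈ s, w j = 1 + p i * p j + q i * q j + p i * q i * (p j * q j) :=
      fun j _ => by simp only [w]; ring
    rw [sum_congr rfl e, sum_add_distrib, sum_add_distrib, sum_add_distrib, ← mul_sum, ← mul_sum,
      ← mul_sum, hpq, show ∑ j ∈ s, q j = 0 from h02, show ∑ j ∈ s, p j = 0 from h01, sum_const,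
      hs]
    simp
  have hii : w i = 4 := by
    rcases hp i hi with e1 | e1 <;> rcases hq i hi with e3 | e3 <;> simp [w, e1, e3]
  have hz : ∀ j ∈ s, j ≠ i → w j = 0 := fun j hj hne => by
    have := single_le_sum (fun k hk => hnn k (erase_subset _ _ hk)) (mem_erase.2 ⟨hne, hj⟩)
    rw [← sum_erase_add _ _ hi, hii] at hsum
    linarith [hnn j hj]
  have key : ∑ j ∈ s, (d j * c₀ j) * w j = 4 * (d i * c₀ i) := by
    rw [sum_eq_single_of_mem i hi fun j hj hne => by rw [hz j hj hne, mul_zero], hii]; ring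
  have hexp : ∑ j ∈ s, (d j * c₀ j) * w j =
      p i * q i * ∑ j ∈ s, d j * (c₀ j * c₁ j * c₂ j) := by
    have e : ∀ j ∈ s, (d j * c₀ j) * w j = c₀ j * d j + p i * (c₁ j * d j) + q i * (c₂ j * d j) +
        p i * q i * (d j * (c₀ j * c₁ j * c₂ j)) := fun j hj => by
      calc (d j * c₀ j) * w j = c₀ j * d j + p i * (c₀ j * c₀ j * (c₁ j * d j)) +
            q i * (c₀ j * c₀ j * (c₂ j * d j)) +
            p i * q i * (c₀ j * c₀ j * (d j * (c₀ j * c₁ j * c₂ j))) := by simp only [w, p, q]; ring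
        _ = _ := by rw [sq h0 j hj, one_mul, one_mul, one_mul]
    rw [sum_congr rfl e, sum_add_distrib, sum_add_distrib, sum_add_distrib, ← mul_sum, ← mul_sum,
      ← mul_sum, hd0, hd1, hd2]
    ring
  rw [key] at hexp
  have h00 := sq h0 i hi
  calc 4 * d i = c₀ i * (4 * (d i * c₀ i)) := by linear_combination (-4 * d i) * h00
    _ = _ := by
      rw [hexp]; simp only [p, q]
      linear_combination (c₀ i * c₁ i * c₂ i * ∑ j ∈ s, d j * (c₀ j * c₁ j * c₂ j)) * h00

variable {G : Type u} [Group G] [Fintype G] {C : Ctx G}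

theorem invComm_of_case_one (hmax : IsCoatom C.H) (O : Order C) : C.InvComm :=
  fun _ hx _ hy hxi hyi =>
    (U0_inverted C hmax O).2 _ (mem_invGen hx hxi) _ (mem_invGen hy hyi)

theorem relIndex_D (hI : C.InvComm) : C.D.relIndex C.U = Nat.card C.U0 := by
  have h := Subgroup.card_mul_index (C.D.subgroupOf C.U)
  rw [Nat.card_congr (Subgroup.subgroupOfEquivOfLe C.D_le_U).toEquiv, card_U_split hI] at h
  exact Nat.eq_of_mul_eq_mul_left Nat.card_pos h

theorem eq_one_of_degree_one (C : Ctx G) (χ : IrrCharacter G) (h : (χ : G → ℂ) 1 = 1) :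
    ∀ g : G, (χ : G → ℂ) g = 1 := by
  obtain ⟨lam, hlam⟩ := IsCharacter.exists_hom (isCharacter_irr χ) h
  haveI := C.simple
  rcases (MonoidHom.normal_ker lam).eq_bot_or_eq_top with hk | hk
  · exfalso
    refine C.na ⟨⟨fun x y => (MonoidHom.ker_eq_bot_iff lam).1 hk ?_⟩⟩
    rw [map_mul, map_mul, mul_comm]
  · intro g
    rw [hlam]
    show ((lam g : ℂˣ) : ℂ) = 1
    rw [MonoidHom.mem_ker.1 (hk ▸ Subgroup.mem_top g : g ∈ lam.ker), Units.val_one]

variable (hI : C.InvComm) (β : C.D →* ℂˣ)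

/-- The integer coefficient. -/
noncomputable def zc (χ : IrrCharacter G) : ℤ := (exists_int hI β χ).choose

theorem coef_eq_zc (χ : IrrCharacter G) : coef hI β (χ : G → ℂ) = zc hI β χ :=
  (exists_int hI β χ).choose_spec.choose_spec.1

/-- The degree. -/
noncomputable abbrev dg (χ : IrrCharacter G) : ℤ := (charDegree (χ : G → ℂ) : ℤ)

theorem apply_one_eq_dg (χ : IrrCharacter G) : (χ : G → ℂ) 1 = (dg χ : ℂ) := by
  rw [(irr_one χ).1]; push_cast; rfl

theorem dg_pos (χ : IrrCharacter G) : 0 < dg χ := by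
  have := (irr_one χ).2; simp only [dg]; omega

variable [Fintype (IrrCharacter G)]

/-- The supporting characters. -/
noncomputable def supp : Finset (IrrCharacter G) := univ.filter fun χ => zc hI β χ ≠ 0

theorem mem_supp {χ : IrrCharacter G} : χ ∈ supp hI β ↔ zc hI β χ ≠ 0 := by simp [supp]

theorem coef_ne_zero {χ : IrrCharacter G} (h : χ ∈ supp hI β) : coef hI β (χ : G → ℂ) ≠ 0 := by
  rw [coef_eq_zc]; exact_mod_cast (mem_supp hI β).1 h

theorem sum_supp_mul (f : IrrCharacter G → ℤ) :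
    ∑ χ ∈ supp hI β, zc hI β χ * f χ = ∑ χ, zc hI β χ * f χ := by
  refine sum_subset (subset_univ _) fun χ _ h => ?_
  rw [mem_supp, not_not] at h
  rw [h, zero_mul]

theorem sum_zc_mul (β' : C.D →* ℂˣ) [Decidable (β' = β)] :
    ∑ χ : IrrCharacter G, zc hI β χ * zc hI β' χ = if β' = β then 4 else 0 := by
  have h := sum_coef_mul hI β β'
  simp only [coef_eq_zc] at h
  split_ifs with e <;> simp only [e, if_true, if_false] at h ⊢ <;> exact_mod_cast h

theorem sum_zc_dg : ∑ χ ∈ supp hI β, zc hI β χ * dg χ = 0 := by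
  have h := sum_coef_mul_degree hI β
  simp only [coef_eq_zc, apply_one_eq_dg] at h
  rw [sum_supp_mul]; exact_mod_cast h

theorem zc_sign {χ : IrrCharacter G} (h : χ ∈ supp hI β) : zc hI β χ = 1 ∨ zc hI β χ = -1 := by
  classical
  have hsq : ∑ χ : IrrCharacter G, zc hI β χ * zc hI β χ = 4 := by
    rw [sum_zc_mul hI β β, if_pos rfl]
  have hle : zc hI β χ * zc hI β χ ≤ 4 := hsq ▸
    single_le_sum (fun φ _ => mul_self_nonneg (zc hI β φ)) (mem_univ χ)
  have hne := (mem_supp hI β).1 h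
  have hb1 : -2 ≤ zc hI β χ := by nlinarith
  have hb2 : zc hI β χ ≤ 2 := by nlinarith
  by_contra hc
  have hsq2 : zc hI β χ * zc hI β χ = 4 := by
    have : zc hI β χ = 2 ∨ zc hI β χ = -2 := by omega
    rcases this with e | e <;> rw [e] <;> norm_num
  have hzero : ∀ φ, φ ≠ χ → zc hI β φ = 0 := by
    intro φ hφ
    rw [← sum_erase_add _ _ (mem_univ χ), hsq2, add_eq_right] at hsq
    exact mul_self_eq_zero.1
      ((sum_eq_zero_iff_of_nonneg fun ψ _ => mul_self_nonneg _).1 hsq φ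
        (mem_erase.2 ⟨hφ, mem_univ φ⟩))
  have hd := sum_zc_dg hI β
  rw [sum_eq_single_of_mem χ h fun φ _ hφ => by rw [hzero φ hφ, zero_mul], mul_eq_zero] at hd
  rcases hd with e | e
  · exact hne e
  · exact (dg_pos χ).ne' e

theorem card_supp : (supp hI β).card = 4 := by
  classical
  have h : ∑ χ ∈ supp hI β, zc hI β χ * zc hI β χ = 4 := by
    rw [sum_supp_mul, sum_zc_mul hI β β, if_pos rfl]
  rw [sum_congr rfl fun χ hχ => show zc hI β χ * zc hI β χ = 1 by
    rcases zc_sign hI β hχ with e | e <;> rw [e] <;> norm_num, sum_const, nsmul_one] at h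
  exact_mod_cast h

include hI in
theorem e_pos (O : Order C) : 0 < O.e := by
  rcases Nat.eq_zero_or_pos O.e with h | h
  · have := O.hme
    rw [h, mul_zero, relIndex_D hI] at this
    exact absurd this.symm Nat.card_pos.ne'
  · exact h

/-- The class-sum identity in terms of the order formula. -/
theorem weighted_sum (O : Order C) (f : IrrCharacter G → ℚ)
    (hf : ∀ χ ∈ supp hI β, coef hI β (χ : G → ℂ) * (χ : G → ℂ) C.a ^ 2 / (χ : G → ℂ) 1 = (f χ : ℂ)) :
    (((4 * O.e + O.η) * (2 * O.e + O.η) : ℤ) : ℚ) * ∑ χ ∈ supp hI β, f χ = 8 * (O.e : ℚ) ^ 2 := by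
  have h := pairs_identity hI β
  have hu : (Nat.card C.U0 : ℂ) = (O.m : ℂ) * O.e := by
    rw [← relIndex_D hI, ← O.hme, Nat.cast_mul]
  have hidx : (C.H.index : ℂ) =
      (O.m : ℂ) ^ 2 * (((4 * O.e + O.η) * (2 * O.e + O.η) : ℤ) : ℂ) := by
    have := congrArg (Int.cast (R := ℂ)) O.hindex
    rw [O.hq] at this
    push_cast at this ⊢
    linear_combination this
  have hm : (O.m : ℂ) ≠ 0 := by
    intro h0
    rw [h0, zero_mul] at hu
    exact Nat.card_pos.ne' (Nat.cast_eq_zero.1 hu)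
  have hs : ∑ χ : IrrCharacter G, coef hI β (χ : G → ℂ) * (χ : G → ℂ) C.a ^ 2 / (χ : G → ℂ) 1 =
      ∑ χ ∈ supp hI β, (f χ : ℂ) := by
    rw [← sum_congr rfl hf]
    refine (sum_subset (subset_univ _) fun χ _ h => ?_).symm
    rw [mem_supp, not_not] at h
    rw [coef_eq_zc, h, Int.cast_zero, zero_mul, zero_div]
  rw [hs, hu, hidx] at h
  have e : ((((4 * O.e + O.η) * (2 * O.e + O.η) : ℤ) : ℚ) : ℂ) *
      ((∑ χ ∈ supp hI β, f χ : ℚ) : ℂ) = ((8 * (O.e : ℚ) ^ 2 : ℚ) : ℂ) := by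
    push_cast at h ⊢
    refine mul_left_cancel₀ (pow_ne_zero 2 hm) ?_
    linear_combination h
  exact_mod_cast e

/-- Fixed case: the weighted sum and the degrees modulo four. -/
theorem fixed_data (O : Order C) (h : rot1 β = β) :
    (∀ χ ∈ supp hI β, (4 : ℤ) ∣ dg χ + 3 * zc hI β χ ∧ (χ : G → ℂ) C.a = (zc hI β χ : ℂ)) ∧
    (((4 * O.e + O.η) * (2 * O.e + O.η) : ℤ) : ℚ) *
      ∑ χ ∈ supp hI β, (zc hI β χ : ℚ) / dg χ = 8 * (O.e : ℚ) ^ 2 := by
  have hdata : ∀ χ ∈ supp hI β,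
      (4 : ℤ) ∣ dg χ + 3 * zc hI β χ ∧ (χ : G → ℂ) C.a = (zc hI β χ : ℂ) := by
    intro χ hχ
    obtain ⟨z, hz, ha, hd⟩ := degree_cong hI β χ (coef_ne_zero hI β hχ) h
    rw [coef_eq_zc, Int.cast_inj] at hz
    subst hz
    exact ⟨hd, ha⟩
  refine ⟨hdata, weighted_sum hI β O _ fun χ hχ => ?_⟩
  rw [coef_eq_zc, (hdata χ hχ).2, apply_one_eq_dg]
  rcases zc_sign hI β hχ with e | e <;> rw [e] <;> push_cast <;> ring

theorem dg_ne_one (hβ : β ≠ 1) {χ : IrrCharacter G} (hχ : χ ∈ supp hI β) : dg χ ≠ 1 := by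
  classical
  intro h1
  refine coef_ne_zero hI β hχ ?_
  have hall := eq_one_of_degree_one C χ (by rw [apply_one_eq_dg, h1, Int.cast_one])
  have e : coef hI β (χ : G → ℂ) =
      (Nat.card C.U : ℂ)⁻¹ * ∑ x ∈ C.Uf, psi hI β x⁻¹ * psi hI 1 x := by
    rw [coef]
    congr 1
    refine sum_congr rfl fun x hx => ?_
    rw [hall, psi_of_mem hI 1 (mem_Uf.1 hx), MonoidHom.one_apply, Units.val_one, one_mul, mul_one]
  rw [e, sum_psi_mul hI 1 β, if_neg hβ, mul_zero]

/-- Signed reciprocals of degrees congruent to their signs. -/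
theorem recip_bound {χ : IrrCharacter G} (hχ : χ ∈ supp hI β) (hd : (4 : ℤ) ∣ dg χ + 3 * zc hI β χ)
    (h1 : dg χ ≠ 1) :
    (zc hI β χ : ℚ) / dg χ ≤ 1 / 5 ∧ (zc hI β χ = -1 → (zc hI β χ : ℚ) / dg χ ≤ 0) := by
  have hp := dg_pos χ
  rcases zc_sign hI β hχ with e | e
  · have h5 : 5 ≤ dg χ := by obtain ⟨k, hk⟩ := hd; omega
    refine ⟨?_, fun h => absurd (e.symm.trans h) (by norm_num)⟩
    rw [e, Int.cast_one]
    exact one_div_le_one_div_of_le (by norm_num) (by exact_mod_cast h5)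
  · have : (0 : ℚ) < dg χ := by exact_mod_cast hp
    rw [e]
    push_cast
    constructor
    · exact le_trans (div_nonpos_of_nonpos_of_nonneg (by norm_num) this.le) (by norm_num)
    · exact fun _ => div_nonpos_of_nonpos_of_nonneg (by norm_num) this.le

include hI in
/-- A linear character of `D` other than the trivial one forces `e = 1`. -/
theorem e_eq_one (O : Order C) (hβ : β ≠ 1) : O.e = 1 := by
  classical
  have he := e_pos hI O
  by_cases h : rot1 β = β
  · obtain ⟨hdata, hsum⟩ := fixed_data hI β O h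
    obtain ⟨χ₀, hχ₀, hneg⟩ : ∃ χ ∈ supp hI β, zc hI β χ = -1 := by
      by_contra hall
      push Not at hall
      have hd := sum_zc_dg hI β
      have hne : (supp hI β).Nonempty := card_pos.1 (by rw [card_supp hI β]; norm_num)
      refine (sum_pos (fun χ hχ => ?_) hne).ne' hd
      rw [(zc_sign hI β hχ).resolve_right (hall χ hχ), one_mul]
      exact dg_pos χ
    have hb : ∑ χ ∈ supp hI β, (zc hI β χ : ℚ) / dg χ ≤ 3 / 5 := by
      rw [← sum_erase_add _ _ hχ₀]
      have h0 := (recip_bound hI β hχ₀ (hdata _ hχ₀).1 (dg_ne_one hI β hβ hχ₀)).2 hneg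
      have hr := sum_le_card_nsmul ((supp hI β).erase χ₀)
        (fun χ => (zc hI β χ : ℚ) / dg χ) (1 / 5) fun χ hχ =>
          (recip_bound hI β (mem_of_mem_erase hχ) (hdata _ (mem_of_mem_erase hχ)).1
            (dg_ne_one hI β hβ (mem_of_mem_erase hχ))).1
      rw [card_erase_of_mem hχ₀, card_supp hI β, nsmul_eq_mul] at hr
      have e3 : (((4 - 1 : ℕ) : ℚ)) * (1 / 5) = 3 / 5 := by norm_num
      linarith
    have he' : (1 : ℚ) ≤ O.e := by exact_mod_cast he
    rcases O.hη with hη | hη <;> rw [hη] at hsum <;> push_cast at hsum hb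
    · by_contra hne
      have h2 : (2 : ℚ) ≤ O.e := by exact_mod_cast (by omega : 2 ≤ O.e)
      nlinarith
    · exfalso
      have hpos : (0 : ℚ) ≤ (4 * (O.e : ℚ) + -1) * (2 * (O.e : ℚ) + -1) :=
        mul_nonneg (by linarith) (by linarith)
      nlinarith [mul_le_mul_of_nonneg_left hb hpos]
  · set S := supp hI β
    have hz : ∀ χ ∈ S, zc hI (rot2 β) χ ≠ 0 ∧ zc hI (rot1 β) χ ≠ 0 := by
      intro χ hχ
      have hc := coef_ne_zero hI β hχ
      have hodd : ∀ (γ : C.D →* ℂˣ) (χ : IrrCharacter G), χ ∈ supp hI γ →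
          ∀ z : ℤ, coef hI γ (χ : G → ℂ) = z → ¬ (2 : ℤ) ∣ z := by
        intro γ χ hχ z hz
        rw [coef_eq_zc, Int.cast_inj] at hz
        subst hz
        rcases zc_sign hI γ hχ with e | e <;> rw [e] <;> decide
      have h2 := coef_rot2_ne_zero hI β χ hc h (hodd β χ hχ)
      have h2' : χ ∈ supp hI (rot2 β) := (mem_supp hI _).2 fun e => h2 (by
        rw [coef_eq_zc, e, Int.cast_zero])
      have hne : rot1 (rot2 β) ≠ rot2 β := by
        rw [rot2_rot1]; exact fun e => h (rot1_eq_of_rot2 β e.symm)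
      have h1 := coef_rot2_ne_zero hI (rot2 β) χ h2 hne (hodd _ χ h2')
      have e1 : rot2 (rot2 β) = rot1 β := by
        show rot1 (rot1 (rot2 β)) = rot1 β
        rw [rot2_rot1]
      rw [e1, coef_eq_zc] at h1
      rw [coef_eq_zc] at h2
      exact ⟨by exact_mod_cast h2, by exact_mod_cast h1⟩
    have hsupp : ∀ γ : C.D →* ℂˣ, (∀ χ ∈ S, zc hI γ χ ≠ 0) → supp hI γ = S := fun γ hγ =>
      (eq_of_subset_of_card_le (fun χ hχ => (mem_supp hI γ).2 (hγ χ hχ))
        (by rw [card_supp hI γ, card_supp hI β])).symm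
    have hs1 := hsupp (rot1 β) fun χ hχ => (hz χ hχ).2
    have hs2 := hsupp (rot2 β) fun χ hχ => (hz χ hχ).1
    have h2 : rot2 β ≠ β := fun e => h (rot1_eq_of_rot2 β e)
    have h12 := rot1_ne_rot2 β h
    have o01 : ∑ χ ∈ S, zc hI β χ * zc hI (rot1 β) χ = 0 := by
      rw [sum_supp_mul, sum_zc_mul hI β (rot1 β), if_neg h]
    have o02 : ∑ χ ∈ S, zc hI β χ * zc hI (rot2 β) χ = 0 := by
      rw [sum_supp_mul, sum_zc_mul hI β (rot2 β), if_neg h2]
    have o12 : ∑ χ ∈ S, zc hI (rot1 β) χ * zc hI (rot2 β) χ = 0 := by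
      rw [← hs1, sum_supp_mul, sum_zc_mul hI (rot1 β) (rot2 β), if_neg h12]
    obtain ⟨T, hT⟩ := four_signs S (card_supp hI β) (zc hI β) (zc hI (rot1 β)) (zc hI (rot2 β)) dg
      (fun χ hχ => zc_sign hI β hχ) (fun χ hχ => zc_sign hI _ (hs1.symm ▸ hχ))
      (fun χ hχ => zc_sign hI _ (hs2.symm ▸ hχ)) o01 o02 o12 (sum_zc_dg hI β)
      (hs1 ▸ sum_zc_dg hI (rot1 β)) (hs2 ▸ sum_zc_dg hI (rot2 β))
    have hT0 : T ≠ 0 := by
      obtain ⟨χ, hχ⟩ : S.Nonempty := card_pos.1 (by rw [card_supp hI β]; norm_num)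
      intro hT0
      have := hT χ hχ
      rw [hT0, mul_zero] at this
      have := dg_pos χ
      omega
    have hval : ∀ χ ∈ S,
        coef hI β (χ : G → ℂ) * (χ : G → ℂ) C.a ^ 2 / (χ : G → ℂ) 1 =
          (((4 * (3 * zc hI β χ + 2 * zc hI (rot1 β) χ + 2 * zc hI (rot2 β) χ +
            2 * (zc hI β χ * zc hI (rot1 β) χ * zc hI (rot2 β) χ)) *
              (zc hI β χ * zc hI (rot1 β) χ * zc hI (rot2 β) χ) : ℤ) : ℚ) / (T : ℚ) : ℚ) := by
      intro χ hχ
      have hv := values_moved hI β χ (coef_ne_zero hI β hχ) h 1 (one_mem _)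
      rw [mul_one, psi_one, psi_one, psi_one, mul_one, mul_one, mul_one] at hv
      rw [hv, coef_eq_zc, coef_eq_zc, coef_eq_zc, apply_one_eq_dg]
      have hT' : (T : ℂ) ≠ 0 := by exact_mod_cast hT0
      have hd' : (dg χ : ℂ) ≠ 0 := by exact_mod_cast (dg_pos χ).ne'
      have hTd : (4 : ℂ) * (dg χ : ℂ) = (zc hI β χ : ℂ) * (zc hI (rot1 β) χ : ℂ) *
          (zc hI (rot2 β) χ : ℂ) * T := by exact_mod_cast hT χ hχ
      have sq : ∀ γ : C.D →* ℂˣ, χ ∈ supp hI γ → (zc hI γ χ : ℂ) * zc hI γ χ = 1 := fun γ hγ => by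
        rcases zc_sign hI γ hγ with e | e <;> rw [e] <;> norm_num
      have q0 := sq β hχ
      have q1 := sq (rot1 β) (hs1.symm ▸ hχ)
      have q2 := sq (rot2 β) (hs2.symm ▸ hχ)
      push_cast at hd' hTd ⊢
      generalize (zc hI β χ : ℂ) = c at q0 hTd ⊢
      generalize (zc hI (rot1 β) χ : ℂ) = c₁ at q1 hTd ⊢
      generalize (zc hI (rot2 β) χ : ℂ) = c₂ at q2 hTd ⊢
      have key : c * (c + c₁ + c₂) ^ 2 = 3 * c + 2 * c₁ + 2 * c₂ + 2 * (c * c₁ * c₂) := by
        linear_combination (c + 2 * c₁ + 2 * c₂) * q0 + c * q1 + c * q2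
      have hσ2 : c * c₁ * c₂ * (c * c₁ * c₂) = 1 := by
        linear_combination (c₁ * c₁ * (c₂ * c₂)) * q0 + (c₂ * c₂) * q1 + q2
      rw [key, show (T : ℂ) = 4 * (charDegree (χ : G → ℂ) : ℂ) * (c * c₁ * c₂) by
        linear_combination (-(c * c₁ * c₂)) * hTd + (-(T : ℂ)) * hσ2]
      have hσ0 : c * c₁ * c₂ ≠ 0 := fun e => by rw [e, zero_mul] at hσ2; exact zero_ne_one hσ2
      field_simp
      rw [eq_div_iff hσ0]; ring
    have hsum := weighted_sum hI β O _ hval
    have hconst : ∀ χ ∈ S, zc hI β χ * zc hI (rot1 β) χ * zc hI (rot2 β) χ = T.sign := by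
      intro χ hχ
      have hd := hT χ hχ
      have hp := dg_pos χ
      rcases lt_or_gt_of_ne hT0 with hneg | hpos
      · rw [Int.sign_eq_neg_one_of_neg hneg]
        rcases zc_sign hI β hχ with e0 | e0 <;>
          rcases zc_sign hI (rot1 β) (hs1.symm ▸ hχ) with e1 | e1 <;>
          rcases zc_sign hI (rot2 β) (hs2.symm ▸ hχ) with e2 | e2 <;>
          rw [e0, e1, e2] at hd ⊢ <;> norm_num at hd ⊢ <;> omega
      · rw [Int.sign_eq_one_of_pos hpos]
        rcases zc_sign hI β hχ with e0 | e0 <;>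
          rcases zc_sign hI (rot1 β) (hs1.symm ▸ hχ) with e1 | e1 <;>
          rcases zc_sign hI (rot2 β) (hs2.symm ▸ hχ) with e2 | e2 <;>
          rw [e0, e1, e2] at hd ⊢ <;> norm_num at hd ⊢ <;> omega
    -- the sum of the numerators is `8 σ`, with `σ` the sign of `T`
    have hz0 : ∀ (γ γ' γ'' : C.D →* ℂˣ) (χ : IrrCharacter G), zc hI γ' χ * zc hI γ' χ = 1 →
        zc hI γ'' χ * zc hI γ'' χ = 1 → zc hI γ χ * zc hI γ' χ * zc hI γ'' χ = T.sign →
        zc hI γ χ = T.sign * (zc hI γ' χ * zc hI γ'' χ) := fun γ γ' γ'' χ h1 h2 h3 => by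
      rw [← h3]; linear_combination (-zc hI γ χ * (zc hI γ'' χ * zc hI γ'' χ)) * h1 - zc hI γ χ * h2
    have s1 : ∑ χ ∈ S, zc hI (rot1 β) χ = 0 := by
      calc ∑ χ ∈ S, zc hI (rot1 β) χ
          = T.sign * ∑ χ ∈ S, zc hI β χ * zc hI (rot2 β) χ := by
            rw [mul_sum]
            refine sum_congr rfl fun χ hχ => hz0 _ β (rot2 β) χ ?_ ?_ ?_
            · rcases zc_sign hI β hχ with e | e <;> rw [e] <;> norm_num
            · rcases zc_sign hI _ (hs2.symm ▸ hχ) with e | e <;> rw [e] <;> norm_num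
            · rw [← hconst χ hχ]; ring
        _ = 0 := by rw [o02, mul_zero]
    have s2 : ∑ χ ∈ S, zc hI (rot2 β) χ = 0 := by
      calc ∑ χ ∈ S, zc hI (rot2 β) χ
          = T.sign * ∑ χ ∈ S, zc hI β χ * zc hI (rot1 β) χ := by
            rw [mul_sum]
            refine sum_congr rfl fun χ hχ => hz0 _ β (rot1 β) χ ?_ ?_ ?_
            · rcases zc_sign hI β hχ with e | e <;> rw [e] <;> norm_num
            · rcases zc_sign hI _ (hs1.symm ▸ hχ) with e | e <;> rw [e] <;> norm_num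
            · rw [← hconst χ hχ]; ring
        _ = 0 := by rw [o01, mul_zero]
    have s0 : ∑ χ ∈ S, zc hI β χ = 0 := by
      calc ∑ χ ∈ S, zc hI β χ
          = T.sign * ∑ χ ∈ S, zc hI (rot1 β) χ * zc hI (rot2 β) χ := by
            rw [mul_sum]
            refine sum_congr rfl fun χ hχ => hz0 _ (rot1 β) (rot2 β) χ ?_ ?_ (hconst χ hχ)
            · rcases zc_sign hI _ (hs1.symm ▸ hχ) with e | e <;> rw [e] <;> norm_num
            · rcases zc_sign hI _ (hs2.symm ▸ hχ) with e | e <;> rw [e] <;> norm_num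
        _ = 0 := by rw [o12, mul_zero]
    rw [← sum_div, ← Int.cast_sum, ← sum_congr rfl (fun χ hχ => show
      4 * T.sign * (3 * zc hI β χ) + 4 * T.sign * (2 * zc hI (rot1 β) χ) +
        4 * T.sign * (2 * zc hI (rot2 β) χ) + 8 * (T.sign * T.sign) =
      4 * (3 * zc hI β χ + 2 * zc hI (rot1 β) χ + 2 * zc hI (rot2 β) χ +
          2 * (zc hI β χ * zc hI (rot1 β) χ * zc hI (rot2 β) χ)) *
            (zc hI β χ * zc hI (rot1 β) χ * zc hI (rot2 β) χ) by rw [hconst χ hχ]; ring),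
      sum_add_distrib, sum_add_distrib, sum_add_distrib, ← mul_sum, ← mul_sum, ← mul_sum,
      ← mul_sum, ← mul_sum, ← mul_sum, s0, s1, s2, sum_const, card_supp hI β] at hsum
    have hσ : T.sign * T.sign = 1 := by
      rcases lt_or_gt_of_ne hT0 with hh | hh
      · rw [Int.sign_eq_neg_one_of_neg hh]; norm_num
      · rw [Int.sign_eq_one_of_pos hh]; norm_num
    have hT' : (T : ℚ) ≠ 0 := by exact_mod_cast hT0
    have hfin : (4 * O.e + O.η) * (2 * O.e + O.η) * 4 = T * (O.e : ℤ) ^ 2 := by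
      rw [hσ] at hsum
      field_simp at hsum
      norm_num at hsum
      have : (((4 * O.e + O.η) * (2 * O.e + O.η) * 4 : ℤ) : ℚ) =
          ((T * (O.e : ℤ) ^ 2 : ℤ) : ℚ) := by
        push_cast at hsum ⊢; linarith
      exact_mod_cast this
    -- `4 d` is a multiple of `T`, so `e` divides `1`
    obtain ⟨χ, hχ⟩ : S.Nonempty := card_pos.1 (by rw [card_supp hI β]; norm_num)
    have hdT := hT χ hχ
    rw [hconst χ hχ] at hdT
    have hTd : T = 4 * dg χ * T.sign := by
      rw [hdT]; linear_combination (-T) * hσ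
    rw [hTd] at hfin
    have hη2 : O.η * O.η = 1 := by rcases O.hη with e | e <;> rw [e] <;> norm_num
    have hdvd : (O.e : ℤ) ∣ 1 := by
      refine ⟨dg χ * T.sign * O.e - 8 * O.e - 6 * O.η, ?_⟩
      have E : (4 * O.e + O.η) * (2 * O.e + O.η) = dg χ * T.sign * (O.e : ℤ) ^ 2 := by linarith
      linear_combination E - hη2
    exact_mod_cast Int.eq_one_of_dvd_one (Int.natCast_nonneg _) hdvd

theorem rot1_one : rot1 (1 : C.D →* ℂˣ) = 1 := MonoidHom.ext fun _ => rfl

include hI in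
/-- The principal case with `e = 1`: a character of degree three. -/
theorem exists_degree_three (O : Order C) (he : O.e = 1) :
    ∃ χ : IrrCharacter G, dg χ = 3 ∧ (χ : G → ℂ) C.a = -1 := by
  classical
  obtain ⟨hdata, hsum⟩ := fixed_data hI (1 : C.D →* ℂˣ) O rot1_one
  have hone : (oneIrr G) ∈ supp hI (1 : C.D →* ℂˣ) ∧ zc hI 1 (oneIrr G) = 1 := by
    have e : coef hI (1 : C.D →* ℂˣ) (oneIrr G : G → ℂ) = 1 := by
      rw [coef, sum_congr rfl fun x hx => show (oneIrr G : G → ℂ) (C.a * x) * psi hI 1 x⁻¹ = 1 by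
        rw [oneIrr_coe, psi_of_mem hI 1 (inv_mem (mem_Uf.1 hx)), MonoidHom.one_apply,
          Units.val_one, one_mul], sum_const, card_Uf, nsmul_one, inv_mul_cancel₀ card_U_ne_zero]
    rw [coef_eq_zc] at e
    have e' : zc hI 1 (oneIrr G) = 1 := by exact_mod_cast e
    exact ⟨(mem_supp hI _).2 (by rw [e']; norm_num), e'⟩
  have hd1 : dg (oneIrr G) = 1 := by
    have := apply_one_eq_dg (oneIrr G)
    rw [oneIrr_coe] at this
    simp only at this
    exact_mod_cast this.symm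
  rw [← sum_erase_add _ _ hone.1, hone.2, hd1, he] at hsum
  push_cast at hsum
  set R := (supp hI (1 : C.D →* ℂˣ)).erase (oneIrr G) with hR
  have hcard : R.card = 3 := by rw [hR, card_erase_of_mem hone.1, card_supp hI]
  have hne1 : ∀ χ ∈ R, dg χ ≠ 1 := by
    intro χ hχ h1
    refine (mem_erase.1 hχ).1 (Subtype.ext (funext fun g => ?_))
    rw [eq_one_of_degree_one C χ (by rw [apply_one_eq_dg, h1, Int.cast_one]) g, oneIrr_coe]
  by_contra hno
  push Not at hno
  have hlow : ∀ χ ∈ R, -(1 / 7 : ℚ) ≤ (zc hI 1 χ : ℚ) / dg χ ∧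
      (zc hI 1 χ : ℚ) / dg χ ≤ 1 / 5 := by
    intro χ hχ
    have hm := mem_of_mem_erase hχ
    refine ⟨?_, (recip_bound hI _ hm (hdata _ hm).1 (hne1 χ hχ)).1⟩
    have hpos : (0 : ℚ) < dg χ := by exact_mod_cast dg_pos χ
    rcases zc_sign hI 1 hm with e | e
    · rw [e, Int.cast_one]; exact le_trans (by norm_num) (div_pos one_pos hpos).le
    · rw [e]; push_cast
      have h7 : 7 ≤ dg χ := by
        have := dg_pos χ
        obtain ⟨k, hk⟩ := (hdata _ hm).1
        rw [e] at hk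
        rcases eq_or_ne (dg χ) 3 with h3 | h3
        · exact absurd ((hdata _ hm).2.trans (by rw [e]; norm_num)) (hno χ h3)
        · omega
      rw [neg_div, neg_le_neg_iff]
      exact one_div_le_one_div_of_le (by norm_num) (by exact_mod_cast h7)
  have h1 := card_nsmul_le_sum R (fun χ => (zc hI 1 χ : ℚ) / dg χ) (-(1 / 7)) fun χ hχ => (hlow χ hχ).1
  have h2 := sum_le_card_nsmul R (fun χ => (zc hI 1 χ : ℚ) / dg χ) (1 / 5) fun χ hχ => (hlow χ hχ).2
  rw [hcard, nsmul_eq_mul] at h1 h2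
  rcases O.hη with hη | hη <;> rw [hη] at hsum <;> norm_num at hsum h1 h2 <;> linarith

omit [Fintype (IrrCharacter G)] in
/-- A character of degree three with value `-1` at `a` makes `U` abelian. -/
theorem commute_of_degree_three (χ : IrrCharacter G) (h3 : (χ : G → ℂ) 1 = 3)
    (ha : (χ : G → ℂ) C.a = -1) : ∀ x ∈ C.U, ∀ y ∈ C.U, Commute x y := by
  classical
  obtain ⟨M, hM⟩ := exists_isPModular Nat.prime_two
  haveI : M.IsPrime := hM.2.1.isPrime
  haveI : Fintype (Ha C) := Fintype.ofFinite _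
  haveI : Fintype (NU C) := Fintype.ofFinite _
  have hcH := IsCharacter.restrict (isCharacter_irr χ) (Ha C)
  have hcN := IsCharacter.restrict hcH (NU C)
  have hlin : ∀ θ : IrrCharacter (NU C),
      classInner (fun n : NU C => (χ : G → ℂ) ((n : Ha C) : G)) (θ : NU C → ℂ) ≠ 0 →
      (θ : NU C → ℂ) 1 = 1 := by
    intro θ hθ
    obtain ⟨hd, hdpos⟩ := irr_one θ
    set k := charDegree (θ : NU C → ℂ)
    have hodd : ¬ 2 ∣ k := fun h => (theta_unit hM θ).1 (by
      rw [hd]; exact (memLocalIdeal_natCast_iff hM).2 h)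
    have hle := IsCharacter.re_constituent_le hcN θ.2 hθ
    simp only [Subgroup.coe_one, h3, hd, Complex.natCast_re, Complex.re_ofNat] at hle
    have hk : k ≤ 3 := by exact_mod_cast hle
    rcases (show k = 1 ∨ k = 3 by omega) with h | h
    · rw [hd, h, Nat.cast_one]
    exfalso
    rw [h] at hd
    have heqθ := IsCharacter.eq_of_constituent hcN θ.2 hθ
      (by simp only [Subgroup.coe_one, h3, hd]; norm_num)
    obtain ⟨ξ₀, hξ₀, hξc⟩ := IsCharacter.exists_constituent hcH fun h0 => by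
      have := congrFun h0 1
      simp [h3] at this
    have hφ := IsCharacter.sub_irr hcH hξ₀ hξc
    obtain ⟨n, hn⟩ := IsCharacter.exists_degree hφ
    obtain ⟨l, hl, hl'⟩ := IsIrrCharacter.exists_degree hξ₀
    simp only [Pi.sub_apply, Subgroup.coe_one, h3, hl'] at hn
    have hnl : n + l = 3 := by
      have : ((n + l : ℕ) : ℂ) = ((3 : ℕ) : ℂ) := by push_cast; rw [← hn]; ring
      exact_mod_cast this
    have hn0 : n = 0 := by
      by_contra hn0
      have small : ∀ (φ : Ha C → ℂ) (j : ℕ), IsCharacter (Ha C) φ → φ 1 = j → j < 3 →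
          classInner (fun m : NU C => φ m) (θ : NU C → ℂ) = 0 := by
        intro φ j hφ hj hj3
        by_contra hne
        have := IsCharacter.re_constituent_le (IsCharacter.restrict hφ (NU C)) θ.2 hne
        simp only [Subgroup.coe_one, hd, hj, Complex.natCast_re] at this
        exact absurd (Nat.cast_le.1 this) (by omega)
      refine hθ ?_
      have e := congrArg₂ (· + ·) (small _ l (IsIrrCharacter.isCharacter hξ₀) hl' (by omega))
        (small _ n hφ (by simp only [Pi.sub_apply, Subgroup.coe_one, h3, hl', hn]) (by omega))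
      simp only [classInner, Pi.sub_apply, sub_mul, sum_sub_distrib, ← mul_add, add_zero,
        add_sub_cancel] at e
      exact e
    have hχξ : (fun h : Ha C => (χ : G → ℂ) h) = ξ₀ := IsCharacter.eq_of_constituent hcH hξ₀ hξc
      (by simp only [Subgroup.coe_one, h3, hl', show l = 3 by omega]; norm_num)
    set a' : Ha C := ⟨C.a, C.a_mem_H⟩
    have hcen : ∀ g : Ha C, g * a' * g⁻¹ = a' := fun g => Subtype.ext
      (mul_inv_eq_iff_eq_mul.2 (Subgroup.mem_centralizer_singleton_iff.1 g.2))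
    let f : Ha C → ℂ := fun g => if g = a' then 1 else 0
    have hf : IsClassFunction (Ha C) f := fun g x => by
      simp only [f]
      refine if_congr ⟨fun e => ?_, fun e => by rw [e, hcen]⟩ rfl rfl
      exact mul_left_cancel (mul_right_cancel (e.trans (hcen x).symm))
    have h := class_mul (⟨ξ₀, hξ₀⟩ : IrrCharacter (Ha C)) hf f
    simp only [f, mul_ite, ite_mul, mul_one, mul_zero, one_mul, zero_mul, sum_ite_eq', mem_univ,
      if_true] at h
    rw [← hχξ] at h
    simp only [Subgroup.coe_one, Subgroup.coe_mul, a', C.ha.1, h3, ha] at h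
    norm_num at h
  intro x hx y hy
  haveI := C.simple
  have hker : kerSubgroup (isCharacter_irr χ) = ⊥ := by
    refine ((kerSubgroup_normal (isCharacter_irr χ)).eq_bot_or_eq_top).resolve_right fun ht => ?_
    have := (mem_kerSubgroup (isCharacter_irr χ) C.a).1 (ht ▸ Subgroup.mem_top C.a)
    rw [ha, h3] at this
    norm_num at this
  have hmem : x * y * x⁻¹ * y⁻¹ ∈ kerSubgroup (isCharacter_irr χ) := by
    rw [mem_kerSubgroup]
    letI := irrFintype (G := NU C)
    have hcl := IsCharacter.isClassFunction hcN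
    have e1 := classFun_expand hcl (toNU hx * toNU hy * (toNU hx)⁻¹ * (toNU hy)⁻¹)
    have e2 := classFun_expand hcl 1
    simp only [Subgroup.coe_mul, InvMemClass.coe_inv, Subgroup.coe_one] at e1 e2
    rw [e1, e2]
    refine sum_congr rfl fun θ _ => ?_
    by_cases hθ : classInner (fun n : NU C => (χ : G → ℂ) ((n : Ha C) : G)) (θ : NU C → ℂ) = 0
    · rw [hθ, zero_mul, zero_mul]
    · obtain ⟨lam, hlam⟩ := IsCharacter.exists_hom (isCharacter_irr θ) (hlin θ hθ)
      congr 1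
      rw [hlam]
      simp only [map_mul, map_inv, map_one, mul_inv_cancel_comm, mul_inv_cancel]
  rw [hker, Subgroup.mem_bot, mul_inv_eq_one, mul_inv_eq_iff_eq_mul] at hmem
  exact hmem

omit [Fintype (IrrCharacter G)] in
variable (C) in
/-- **`D = 1` in case (I).** -/
theorem D_eq_bot_of_invComm (O : Order C) (hmax : IsCoatom C.H) (hI : C.InvComm) : C.D = ⊥ := by
  classical
  letI := irrFintype (G := G)
  by_contra hD
  haveI : Nontrivial C.D := (Subgroup.nontrivial_iff_ne_bot C.D).2 hD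
  haveI : Group.IsSolvable C.D := CfsgLib.DGroup.solvable_of_odd C.D C.odd_D
  obtain ⟨β, hβ⟩ := CfsgLib.TwoSolv.exists_hom_ne_one_of_solvable (Q := C.D)
  obtain ⟨χ, h3, ha⟩ := exists_degree_three hI O (e_eq_one hI β O hβ)
  have hab := commute_of_degree_three χ (by rw [apply_one_eq_dg, h3]; norm_num) ha
  have hHN : C.H ≤ Subgroup.normalizer (C.D : Set G) := by
    intro h hh
    obtain ⟨w, hw, v, hv, rfl⟩ := C.exists_mul_V hh
    refine mul_mem ?_ ?_
    · refine Subgroup.mem_normalizer_iff.2 fun d => ⟨fun hd => ?_, fun hd => ?_⟩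
      · rwa [(hab w hw d (C.D_le_U hd)).eq, mul_inv_cancel_right]
      · have e := (hab w⁻¹ (inv_mem hw) _ (C.D_le_U hd)).eq
        rwa [show d = w⁻¹ * (w * d * w⁻¹) * w by group, e, inv_mul_cancel_right]
    · refine Subgroup.mem_normalizer_iff.2 fun d => ⟨fun hd => ?_, fun hd => ?_⟩
      · rwa [(commute_V_D hv hd).eq, mul_inv_cancel_right]
      · have e := ((commute_V_D hv hd).inv_left).eq
        rwa [show d = v⁻¹ * (v * d * v⁻¹) * v by group, e, inv_mul_cancel_right]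
  have hrho : C.rho ∈ Subgroup.normalizer (C.D : Set G) := by
    refine Subgroup.mem_normalizer_iff.2 fun d => ⟨fun hd => rho_D hd, fun hd => ?_⟩
    have := rho_conj_D hd
    simpa [mul_assoc] using this
  have hnotH : C.rho ∉ C.H := fun h => C.hne (by
    rw [← C.rho_a, (C.mem_H.1 h).eq, mul_inv_cancel_right])
  have htop : Subgroup.normalizer (C.D : Set G) = ⊤ :=
    hmax.2 _ (lt_of_le_of_ne hHN fun e => hnotH (e ▸ hrho))
  haveI := C.simple
  rcases (Subgroup.normalizer_eq_top_iff.1 htop).eq_bot_or_eq_top with h | h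
  · exact hD h
  · refine a_notMem_U (C := C) (C.D_le_U ?_)
    rw [h]; exact Subgroup.mem_top _

omit [Fintype (IrrCharacter G)] in
variable (C) in
/-- **`D = 1` when `C(a)` is maximal.** -/
theorem D_eq_bot (O : Order C) (hmax : IsCoatom C.H) : C.D = ⊥ :=
  D_eq_bot_of_invComm C O hmax (invComm_of_case_one hmax O)

end CfsgLib.GW.CaseI.Ctx
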