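import Cfsg.Agent.Blocks.LocalPrincipal
import Cfsg.Agent.Blocks.Cover
import Cfsg.Agent.Blocks.Congr
import Cfsg.Agent.Char.Linear

/-!
# Gorenstein–Walter, linear characters: general facts on characters and congruences

A sum over a set with an involution is congruent at `2` to the sum over the fixed points, an
irreducible character is multiplicative along a semi-invariant class function it does not kill,
and the expansion of a character on a section only involves the blocks inducing its block.
-/

set_option autoImplicit false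
set_option linter.unusedSectionVars false
set_option linter.style.haveILetI false

namespace CfsgLib.GW.Linear

open Cfsg Finset CfsgLib.Block CfsgLib.Block.Chr CfsgLib.Char
open scoped ComplexConjugate

universe u

variable {M : Ideal AlgInt} [M.IsPrime]

theorem pairing_free (hM : IsPModular 2 M) {α : Type*} (s : Finset α) (f : α → ℂ) (σ : α → α)
    (hs : ∀ x ∈ s, σ x ∈ s) (hσ : ∀ x ∈ s, σ (σ x) = x) (hne : ∀ x ∈ s, σ x ≠ x)
    (hf : ∀ x ∈ s, MemLocalRing M (f x)) (hfσ : ∀ x ∈ s, f (σ x) = f x) :
    MemLocalIdeal M (∑ x ∈ s, f x) := by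
  classical
  haveI := charP_residue hM
  let F : α → localRing M := fun x => if h : MemLocalRing M (f x) then ⟨f x, h⟩ else 0
  have hF : ∀ x ∈ s, (F x : ℂ) = f x := fun x hx => by simp only [F, dif_pos (hf x hx)]
  have h0 : res M (∑ x ∈ s, F x) = 0 := by
    rw [map_sum]
    refine sum_involution (fun x _ => σ x) (fun x hx => ?_) (fun x hx _ => hne x hx) hs hσ
    have e : F (σ x) = F x := Subtype.ext (by rw [hF _ (hs x hx), hF x hx, hfσ x hx])
    rw [e]
    exact CharTwo.add_self_eq_zero _
  rw [res_eq_zero_iff] at h0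
  have e : ((∑ x ∈ s, F x : localRing M) : ℂ) = ∑ x ∈ s, f x := by
    push_cast
    exact sum_congr rfl hF
  rwa [e] at h0

/-- A sum over a set with an involution is congruent to the sum over the fixed points. -/
theorem pairing (hM : IsPModular 2 M) {α : Type*} [DecidableEq α] (s : Finset α) (f : α → ℂ)
    (σ : α → α) (hs : ∀ x ∈ s, σ x ∈ s) (hσ : ∀ x ∈ s, σ (σ x) = x)
    (hf : ∀ x ∈ s, MemLocalRing M (f x)) (hfσ : ∀ x ∈ s, f (σ x) = f x) :
    MemLocalIdeal M (∑ x ∈ s, f x - ∑ x ∈ s.filter (fun x => σ x = x), f x) := by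
  rw [← sum_filter_add_sum_filter_not s (fun x => σ x = x), add_sub_cancel_left]
  refine pairing_free hM _ f σ (fun x hx => ?_) (fun x hx => hσ x (mem_filter.1 hx).1)
    (fun x hx => (mem_filter.1 hx).2) (fun x hx => hf x (mem_filter.1 hx).1)
    fun x hx => hfσ x (mem_filter.1 hx).1
  obtain ⟨h1, h2⟩ := mem_filter.1 hx
  exact mem_filter.2 ⟨hs x h1, fun e => h2 (by rwa [hσ x h1, eq_comm] at e)⟩

section Rep

variable {K : Type u} [Group K] [Fintype K]

/-- An irreducible character along a semi-invariant class function not orthogonal to it. -/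
theorem irr_mul_eq (ξ : IrrCharacter K) {a : K → ℂ} (ha : IsClassFunction K a)
    (hS : ∑ g : K, a g * (ξ : K → ℂ) g ≠ 0) {k : K} {μ : ℂ}
    (hk : ∀ g, a (g * k⁻¹) = μ * a g) (x : K) :
    (ξ : K → ℂ) (k * x) = μ * (ξ : K → ℂ) x := by
  classical
  set S := ∑ g : K, a g * (ξ : K → ℂ) g
  have h : ∀ y : K, (∑ g : K, a g * (ξ : K → ℂ) (g * y)) * (ξ : K → ℂ) 1 = S * (ξ : K → ℂ) y := by
    intro y
    have h' := class_mul ξ ha (fun z => if z = y then 1 else 0)
    simpa [mul_ite, ite_mul, sum_ite_eq', mem_univ] using h'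
  have e : ∑ g : K, a g * (ξ : K → ℂ) (g * (k * x)) =
      μ * ∑ g : K, a g * (ξ : K → ℂ) (g * x) := by
    rw [mul_sum]
    refine Fintype.sum_equiv (Equiv.mulRight k) _ _ fun g => ?_
    simp only [Equiv.coe_mulRight]
    have := hk (g * k)
    rw [mul_inv_cancel_right] at this
    rw [mul_assoc g k x, this, mul_assoc]
  refine mul_left_cancel₀ hS ?_
  rw [← h (k * x), e, mul_assoc, h x]
  ring

end Rep

section Section

variable {G : Type u} [Group G] [Fintype G] {p : ℕ}

/-- The expansion of a character on a section only involves blocks inducing its block. -/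
theorem section_expansion (hM : IsPModular p M) {x : G} {k : ℕ} (hx : orderOf x = p ^ k)
    [Fintype (Subgroup.centralizer ({x} : Set G))]
    [Fintype (IrrCharacter (Subgroup.centralizer ({x} : Set G)))] (χ : IrrCharacter G)
    [DecidablePred fun ξ : IrrCharacter (Subgroup.centralizer ({x} : Set G)) =>
      IsInducedBlock M (Subgroup.centralizer ({x} : Set G))
        (blockOf M (ξ : Subgroup.centralizer ({x} : Set G) → ℂ)) (blockOf M (χ : G → ℂ))]
    (y : Subgroup.centralizer ({x} : Set G)) (hy : ¬ p ∣ orderOf y) :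
    (χ : G → ℂ) (x * (y : G)) =
      ∑ ξ ∈ univ.filter (fun ξ : IrrCharacter (Subgroup.centralizer ({x} : Set G)) =>
        IsInducedBlock M (Subgroup.centralizer ({x} : Set G))
          (blockOf M (ξ : Subgroup.centralizer ({x} : Set G) → ℂ)) (blockOf M (χ : G → ℂ))),
        classInner (fun c : Subgroup.centralizer ({x} : Set G) => (χ : G → ℂ) (x * (c : G)))
          (ξ : Subgroup.centralizer ({x} : Set G) → ℂ) *
            (ξ : Subgroup.centralizer ({x} : Set G) → ℂ) y := by
  classical
  haveI : Fintype (Set (IrrCharacter (Subgroup.centralizer ({x} : Set G)))) := Fintype.ofFinite _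
  have hexp := classFun_expand (isClassFunction_shift χ x) y
  beta_reduce at hexp
  rw [hexp, ← sum_filter_add_sum_filter_not univ
    (fun ξ : IrrCharacter (Subgroup.centralizer ({x} : Set G)) =>
      IsInducedBlock M (Subgroup.centralizer ({x} : Set G)) (blockOf M (ξ : Subgroup.centralizer ({x} : Set G) → ℂ)) (blockOf M (χ : G → ℂ))), add_eq_left]
  rw [← sum_fiberwise _ (fun ξ : IrrCharacter (Subgroup.centralizer ({x} : Set G)) => blockOf M (ξ : Subgroup.centralizer ({x} : Set G) → ℂ))]
  refine sum_eq_zero fun b _ => ?_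
  by_cases hb : ∃ ξ : IrrCharacter (Subgroup.centralizer ({x} : Set G)), b = blockOf M (ξ : Subgroup.centralizer ({x} : Set G) → ℂ) ∧
      ¬ IsInducedBlock M (Subgroup.centralizer ({x} : Set G)) (blockOf M (ξ : Subgroup.centralizer ({x} : Set G) → ℂ)) (blockOf M (χ : G → ℂ))
  · obtain ⟨ξ, rfl, hξ⟩ := hb
    have hP := isPBlock_blockOf (M := M) ξ
    have hset : (univ.filter fun ζ : IrrCharacter (Subgroup.centralizer ({x} : Set G)) =>
          ¬ IsInducedBlock M (Subgroup.centralizer ({x} : Set G)) (blockOf M (ζ : Subgroup.centralizer ({x} : Set G) → ℂ)) (blockOf M (χ : G → ℂ))).filter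
        (fun ζ : IrrCharacter (Subgroup.centralizer ({x} : Set G)) => blockOf M (ζ : Subgroup.centralizer ({x} : Set G) → ℂ) = blockOf M (ξ : Subgroup.centralizer ({x} : Set G) → ℂ)) =
        univ.filter (· ∈ blockOf M (ξ : Subgroup.centralizer ({x} : Set G) → ℂ)) := by
      ext ζ
      simp only [mem_filter, mem_univ, true_and]
      exact ⟨fun h => h.2 ▸ mem_blockOf_self ζ,
        fun h => ⟨fun hp => hξ (eq_blockOf_of_mem hP h ▸ hp), (eq_blockOf_of_mem hP h).symm⟩⟩
    rw [hset]
    have h0 := blockPart_eq_zero_of_not_induced hM hx (isPBlock_blockOf χ) (mem_blockOf_self χ)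
      hP hξ y hy
    rw [blockPart_eq_sum_inner] at h0
    exact h0
  · push Not at hb
    refine sum_eq_zero fun ξ hξ => ?_
    exfalso
    simp only [mem_filter, mem_univ, true_and] at hξ
    exact hξ.1 (hb ξ hξ.2.symm)

/-- Two members of blocks inducing the block of `χ` have congruent restricted central values. -/
theorem omega_res_cong {H : Subgroup G} [Fintype H] {χ : IrrCharacter G} {ξ η : IrrCharacter H}
    (h : IsInducedBlock M H (blockOf M (ξ : H → ℂ)) (blockOf M (χ : G → ℂ)))
    (h' : IsInducedBlock M H (blockOf M (η : H → ℂ)) (blockOf M (χ : G → ℂ)))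
    {a : G → ℂ} (ha : IsIntClass M a) :
    MemLocalIdeal M (omega (ξ : H → ℂ) (resFun H a) - omega (η : H → ℂ) (resFun H a)) :=
  memLocalIdeal_sub_trans
    (induced_cong H (h.2.2 ξ (mem_blockOf_self ξ) χ (mem_blockOf_self χ)) ha)
    (memLocalIdeal_sub_comm
      (induced_cong H (h'.2.2 η (mem_blockOf_self η) χ (mem_blockOf_self χ)) ha))

end Section

end CfsgLib.GW.Linear
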