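import Cfsg.Agent.GW.CaseI.Setting
import Cfsg.Agent.Invol.Dihedral
import Mathlib.Analysis.Complex.Basic
import Mathlib.GroupTheory.Complement

/-!
# Gorenstein–Walter, linear characters: the group theory

When the elements of `U` inverted by `b` commute, `U0` is abelian, inverted by `b`, and
`U = U0 ⋊ D`.  A linear character of `D` extends to an `H`-invariant one of `U`.
-/

set_option autoImplicit false
set_option linter.style.haveILetI false
set_option linter.unusedSectionVars false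

namespace CfsgLib.GW.CaseI.Ctx

open Subgroup
open CfsgLib.NormCyclic (Inv)
open CfsgLib.DGroup (conj_mem conj_mem' odd_orderOf eq_one_of_sq eq_one_of_inverted)

universe u

variable {G : Type u} [Group G] [Finite G] (C : Ctx G)

/-- The elements of `U` inverted by `b` commute. -/
def InvComm : Prop :=
  ∀ x ∈ C.U, ∀ y ∈ C.U, C.b * x * C.b = x⁻¹ → C.b * y * C.b = y⁻¹ → Commute x y

variable {C}

theorem b_conj_mem_U {x : G} (hx : x ∈ C.U) : C.b * x * C.b ∈ C.U := by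
  rw [← conj_invol_eq C.hb.1]; exact conj_mem C.b_norm_U hx

theorem b_conj_conj (x : G) : C.b * (C.b * x * C.b) * C.b = x := by
  calc C.b * (C.b * x * C.b) * C.b = (C.b * C.b) * x * (C.b * C.b) := by group
    _ = x := by rw [C.hb.1, one_mul, mul_one]

theorem a_notMem_U : C.a ∉ C.U := fun h => C.ha.2 (eq_one_of_sq C.ha.1 (odd_orderOf C.odd_U h))

theorem V_normalizer_U {v : G} (hv : v ∈ C.V) : v ∈ normalizer (C.U : Set G) :=
  C.H_le_normalizer_U (C.V_le_H hv)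

theorem commute_V_D {v d : G} (hv : v ∈ C.V) (hd : d ∈ C.D) : Commute v d := by
  obtain ⟨hdU, hdb⟩ := C.mem_D.1 hd
  rcases C.mem_V.1 hv with rfl | rfl | rfl | rfl
  exacts [Commute.one_left d, (C.commute_a hdU).symm, hdb.symm, (C.commute_c hdU hdb).symm]

variable (hI : C.InvComm)

include hI in
theorem commute_U0 {x y : G} (hx : x ∈ C.U0) (hy : y ∈ C.U0) : Commute x y := by
  refine closure_induction₂ (p := fun x y _ _ => Commute x y) (fun x y hx hy => ?_)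
    (fun y _ => Commute.one_left y) (fun x _ => Commute.one_right x)
    (fun _ _ _ _ _ _ h h' => h.mul_left h') (fun _ _ _ _ _ _ h h' => h.mul_right h')
    (fun _ _ _ _ h => h.inv_left) (fun _ _ _ _ h => h.inv_right) hx hy
  exact hI x hx.1 y hy.1 hx.2 hy.2

include hI in
theorem inverted_of_mem_U0 {x : G} (hx : x ∈ C.U0) : C.b * x * C.b = x⁻¹ := by
  have h : ∀ z ∈ closure {x | x ∈ C.U ∧ C.b * x * C.b = x⁻¹}, C.b * z * C.b = z⁻¹ := by
    intro z hz
    induction hz using closure_induction with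
    | mem z hz => exact hz.2
    | one => rw [mul_one, C.hb.1, inv_one]
    | inv z _ ih => rw [invol_inv C.hb.1, ih]
    | mul z w hz hw ihz ihw =>
      rw [invol_mul C.hb.1, ihz, ihw, ← mul_inv_rev, (commute_U0 hI hz hw).eq]
  exact h x hx

include hI in
theorem eq_one_of_mem_U0_D {x : G} (hx : x ∈ C.U0) (hd : x ∈ C.D) : x = 1 := by
  have h := inverted_of_mem_U0 hI hx
  rw [conj_eq_of_commute C.hb.1 (C.mem_D.1 hd).2] at h
  exact CfsgLib.DGroup.eq_one_of_inv_eq h.symm (odd_orderOf C.odd_U (C.D_le_U hd))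

theorem conj_mem_U0 {g y : G} (hg : g ∈ C.H) (hy : y ∈ C.U0) : g * y * g⁻¹ ∈ C.U0 :=
  conj_mem (C.H_le_normalizer_U0 hg) hy

theorem conj_mem_U0' {g y : G} (hg : g ∈ C.H) (hy : y ∈ C.U0) : g⁻¹ * y * g ∈ C.U0 :=
  conj_mem' (C.H_le_normalizer_U0 hg) hy

include hI in
theorem decomp_unique {d d' y y' : G} (hd : d ∈ C.D) (hd' : d' ∈ C.D) (hy : y ∈ C.U0)
    (hy' : y' ∈ C.U0) (h : d * y = d' * y') : d = d' ∧ y = y' := by
  have e : d'⁻¹ * d = y' * y⁻¹ := by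
    calc d'⁻¹ * d = d'⁻¹ * (d * y) * y⁻¹ := by group
      _ = _ := by rw [h]; group
  have h1 := eq_one_of_mem_U0_D hI (e ▸ mul_mem hy' (inv_mem hy)) (mul_mem (inv_mem hd') hd)
  have h2 : d = d' := (inv_mul_eq_one.1 h1).symm
  subst h2
  exact ⟨rfl, mul_left_cancel h⟩

/-- The `D`-part of an element of `U`. -/
noncomputable def part (x : C.U) : G := (C.exists_mul_U0 x.2).choose

theorem part_spec (x : C.U) : part x ∈ C.D ∧ (part x)⁻¹ * (x : G) ∈ C.U0 := by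
  obtain ⟨hd, y, hy, e⟩ := (C.exists_mul_U0 x.2).choose_spec
  refine ⟨hd, ?_⟩
  rw [part]
  nth_rw 2 [e]
  rwa [inv_mul_cancel_left]

include hI in
theorem part_eq {d y : G} (hd : d ∈ C.D) (hy : y ∈ C.U0) {x : C.U} (h : (x : G) = d * y) :
    part x = d := by
  obtain ⟨h1, h2⟩ := part_spec x
  exact (decomp_unique hI h1 hd h2 hy (by rw [mul_inv_cancel_left, h])).1

/-- The projection of `U` onto `D`. -/
noncomputable def pr : C.U →* C.D :=
  MonoidHom.mk' (fun x => ⟨part x, (part_spec x).1⟩) fun x x' => Subtype.ext <| by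
    obtain ⟨h1, h2⟩ := part_spec x
    obtain ⟨h1', h2'⟩ := part_spec x'
    refine part_eq hI (mul_mem h1 h1')
      (mul_mem (conj_mem_U0' (C.U_le_H (C.D_le_U h1')) h2) h2') ?_
    show (x : G) * x' = _
    group

include hI in
theorem pr_D {d : G} (hd : d ∈ C.D) : pr hI ⟨d, C.D_le_U hd⟩ = ⟨d, hd⟩ :=
  Subtype.ext (part_eq hI hd (one_mem _) (mul_one d).symm)

include hI in
theorem pr_U0 {y : G} (hy : y ∈ C.U0) : pr hI ⟨y, C.U0_le_U hy⟩ = 1 :=
  Subtype.ext (part_eq hI (one_mem _) hy (one_mul y).symm)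

/-- A linear character of `D` as a function on `U`, zero outside `U`. -/
noncomputable def psi (β : C.D →* ℂˣ) (x : G) : ℂ := by
  classical exact if h : x ∈ C.U then ((β (pr hI ⟨x, h⟩) : ℂˣ) : ℂ) else 0

theorem psi_of_mem (β : C.D →* ℂˣ) {x : G} (h : x ∈ C.U) :
    psi hI β x = ((β (pr hI ⟨x, h⟩) : ℂˣ) : ℂ) := dif_pos h

theorem psi_mul (β : C.D →* ℂˣ) {x y : G} (hx : x ∈ C.U) (hy : y ∈ C.U) :
    psi hI β (x * y) = psi hI β x * psi hI β y := by
  rw [psi_of_mem hI β (mul_mem hx hy), psi_of_mem hI β hx, psi_of_mem hI β hy, ← Units.val_mul,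
    ← map_mul, ← map_mul]
  rfl

theorem psi_D (β : C.D →* ℂˣ) {d : G} (hd : d ∈ C.D) :
    psi hI β d = ((β ⟨d, hd⟩ : ℂˣ) : ℂ) := by
  rw [psi_of_mem hI β (C.D_le_U hd), pr_D hI hd]

theorem psi_U0 (β : C.D →* ℂˣ) {y : G} (hy : y ∈ C.U0) : psi hI β y = 1 := by
  rw [psi_of_mem hI β (C.U0_le_U hy), pr_U0 hI hy, map_one, Units.val_one]

theorem psi_one (β : C.D →* ℂˣ) : psi hI β 1 = 1 := psi_U0 hI β (one_mem _)

theorem psi_ne_zero (β : C.D →* ℂˣ) {x : G} (hx : x ∈ C.U) : psi hI β x ≠ 0 := by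
  rw [psi_of_mem hI β hx]; exact Units.ne_zero _

theorem psi_conj_of_mem (β : C.D →* ℂˣ) {w x : G} (hw : w ∈ C.U) (hx : x ∈ C.U) :
    psi hI β (w * x * w⁻¹) = psi hI β x := by
  have h1 : psi hI β w * psi hI β w⁻¹ = 1 := by
    rw [← psi_mul hI β hw (inv_mem hw), mul_inv_cancel, psi_one]
  rw [psi_mul hI β (mul_mem hw hx) (inv_mem hw), psi_mul hI β hw hx, mul_right_comm, h1, one_mul]

theorem psi_conj (β : C.D →* ℂˣ) {h x : G} (hh : h ∈ C.H) (hx : x ∈ C.U) :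
    psi hI β (h * x * h⁻¹) = psi hI β x := by
  obtain ⟨w, hw, v, hv, rfl⟩ := C.exists_mul_V hh
  have hvx : v * x * v⁻¹ ∈ C.U := conj_mem (V_normalizer_U hv) hx
  rw [show w * v * x * (w * v)⁻¹ = w * (v * x * v⁻¹) * w⁻¹ by group, psi_conj_of_mem hI β hw hvx]
  obtain ⟨d, hd, y, hy, rfl⟩ := C.exists_mul_U0 hx
  have hvy : v * y * v⁻¹ ∈ C.U0 := conj_mem_U0 (C.V_le_H hv) hy
  have e : v * (d * y) * v⁻¹ = d * (v * y * v⁻¹) := by
    rw [← mul_assoc, (commute_V_D hv hd).eq]; group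
  rw [e, psi_mul hI β (C.D_le_U hd) (C.U0_le_U hvy), psi_mul hI β (C.D_le_U hd) (C.U0_le_U hy),
    psi_U0 hI β hvy, psi_U0 hI β hy]

theorem psi_bxb (β : C.D →* ℂˣ) {x : G} (hx : x ∈ C.U) :
    psi hI β (C.b * x * C.b) = psi hI β x := by
  rw [← conj_invol_eq C.hb.1, psi_conj hI β C.b_mem_H hx]

/-! ### Elements conjugate into `D` -/

/-- Conjugate in `U` to an element of `D`. -/
def Dlike (x : G) : Prop := ∃ u ∈ C.U, ∃ d ∈ C.D, x = u * d * u⁻¹

theorem dlike_of_mem {d : G} (hd : d ∈ C.D) : Dlike (C := C) d :=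
  ⟨1, one_mem _, d, hd, by group⟩

theorem Dlike.mem_U {x : G} (h : Dlike (C := C) x) : x ∈ C.U := by
  obtain ⟨u, hu, d, hd, rfl⟩ := h
  exact mul_mem (mul_mem hu (C.D_le_U hd)) (inv_mem hu)

theorem Dlike.conj {x g : G} (h : Dlike (C := C) x) (hg : g ∈ C.H) :
    Dlike (C := C) (g * x * g⁻¹) := by
  obtain ⟨u, hu, d, hd, rfl⟩ := h
  obtain ⟨w, hw, v, hv, rfl⟩ := C.exists_mul_V hg
  refine ⟨w * (v * u * v⁻¹), mul_mem hw (conj_mem (V_normalizer_U hv) hu), d, hd, ?_⟩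
  calc w * v * (u * d * u⁻¹) * (w * v)⁻¹
      = w * (v * u * v⁻¹) * (v * d * v⁻¹) * (w * (v * u * v⁻¹))⁻¹ := by group
    _ = _ := by rw [(commute_V_D hv hd).eq, mul_inv_cancel_right]

theorem Dlike.bxb {x : G} (h : Dlike (C := C) x) : Dlike (C := C) (C.b * x * C.b) := by
  rw [← conj_invol_eq C.hb.1]; exact h.conj C.b_mem_H

theorem mem_D_of_fixed {x : G} (hx : x ∈ C.U) (h : C.b * x * C.b = x) : x ∈ C.D :=
  C.mem_D.2 ⟨hx, commute_of_conj_eq C.hb.1 h⟩

theorem dlike_of_commute {z y : G} (hz : Inv z) (hzH : z ∈ C.H) (hne : z ≠ C.a) (hy : y ∈ C.U)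
    (h : Commute z y) : Dlike (C := C) y := by
  obtain ⟨u, hu, h'⟩ := C.exists_conj_of_inv hz hzH hne
  have key : ∀ v, z = u * v * u⁻¹ → Commute v (u⁻¹ * y * u) := fun v e => by
    subst e
    show v * (u⁻¹ * y * u) = u⁻¹ * y * u * v
    calc v * (u⁻¹ * y * u) = u⁻¹ * (u * v * u⁻¹ * y) * u := by group
      _ = u⁻¹ * (y * (u * v * u⁻¹)) * u := by rw [h.eq]
      _ = _ := by group
  have hm : u⁻¹ * y * u ∈ C.U := mul_mem (mul_mem (inv_mem hu) hy) hu
  refine ⟨u, hu, u⁻¹ * y * u, C.mem_D.2 ⟨hm, ?_⟩, by group⟩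
  rcases h' with h' | h'
  · exact (key _ h').symm
  · have h1 := (C.commute_a hm).mul_right (key _ h').symm
    rwa [c, ← mul_assoc, C.ha.1, one_mul] at h1

/-- Two `G`-conjugate elements of `U`, one of them not conjugate into `D`, are conjugate in `H`. -/
theorem exists_conj_H {x y g : G} (hx : x ∈ C.U) (hy : y ∈ C.U) (hn : ¬ Dlike (C := C) y)
    (hg : g * x * g⁻¹ = y) : ∃ h ∈ C.H, h * x * h⁻¹ = y := by
  set t := g * C.a * g⁻¹ with ht
  have hti : Inv t := C.ha.conj g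
  have hty : Commute t y := by
    rw [← hg, ht]; exact (C.commute_a hx).symm.map (MulAut.conj g).toMonoidHom
  have hay : Commute C.a y := (C.commute_a hy).symm
  by_cases hodd : Odd (orderOf (t * C.a))
  · obtain ⟨k, hk, hkt⟩ := CfsgLib.Invol.exists_conj_of_odd hti.orderOf C.orderOf_a hodd
    have hky : Commute k y := by
      have hle : closure ({t, C.a} : Set G) ≤ centralizer ({y} : Set G) := by
        rw [closure_le]
        rintro z (rfl | rfl)
        exacts [mem_centralizer_singleton_iff.2 hty.eq, mem_centralizer_singleton_iff.2 hay.eq]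
      exact mem_centralizer_singleton_iff.1 (hle hk)
    refine ⟨k * g, ?_, ?_⟩
    · rw [C.mem_H]
      show k * g * C.a = C.a * (k * g)
      calc k * g * C.a = (k * t * k⁻¹) * (k * g) := by rw [ht]; group
        _ = _ := by rw [hkt]
    · calc k * g * x * (k * g)⁻¹ = k * (g * x * g⁻¹) * k⁻¹ := by group
        _ = y := by rw [hg, hky.eq, mul_inv_cancel_right]
  · obtain ⟨hz2, hzt, hza⟩ := CfsgLib.Invol.half_props hti.orderOf C.orderOf_a
      (Nat.not_odd_iff_even.1 hodd)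
    set z := (t * C.a) ^ (orderOf (t * C.a) / 2) with hz
    have hzi := Inv.of_orderOf hz2
    have hzy : Commute z y := (hty.mul_left hay).pow_left _
    by_cases hzeq : z = C.a
    · have htH : t ∈ C.H := C.mem_H.2 ((hzeq ▸ hzt).symm)
      by_cases hteq : t = C.a
      · exact ⟨g, C.mem_H.2 (mul_inv_eq_iff_eq_mul.1 hteq), hg⟩
      · exact absurd (dlike_of_commute hti htH hteq hy hty) hn
    · exact absurd (dlike_of_commute hzi (C.mem_H.2 hza) hzeq hy hzy) hn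

/-! ### The rotation of `D` -/

theorem conj_D_mem {n : G} (ha : n * C.a * n⁻¹ ∈ C.V) (hb : n * C.b * n⁻¹ ∈ C.V) {d : G}
    (hd : d ∈ C.D) : n⁻¹ * d * n ∈ C.D := by
  obtain ⟨hdU, hdb⟩ := C.mem_D.1 hd
  have key : ∀ v, n * v * n⁻¹ ∈ C.V → Commute (n⁻¹ * d * n) v := fun v hv => by
    have h := (commute_V_D hv hd).symm.map (MulAut.conj n⁻¹).toMonoidHom
    simpa [mul_assoc] using h
  refine C.mem_D_of_odd (key _ ha) (key _ hb) ?_
  have := orderOf_injective (MulAut.conj n⁻¹).toMonoidHom (MulAut.conj n⁻¹).injective d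
  simp only [MulEquiv.coe_toMonoidHom, MulAut.conj_apply, inv_inv] at this
  rw [this]; exact odd_orderOf C.odd_U hdU

theorem rho_conj_D {d : G} (hd : d ∈ C.D) : C.rho⁻¹ * d * C.rho ∈ C.D :=
  conj_D_mem (by rw [C.rho_a]; exact C.b_mem_V) (by rw [C.rho_b]; exact C.c_mem_V) hd

theorem rho_D {d : G} (hd : d ∈ C.D) : C.rho * d * C.rho⁻¹ ∈ C.D := by
  have h := conj_D_mem (n := C.rho⁻¹) (C := C) ?_ ?_ hd
  · simpa using h
  · have e : C.rho⁻¹ * C.a * C.rho⁻¹⁻¹ = C.c := by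
      conv_lhs => rw [← C.rho_c]
      group
    rw [e]; exact C.c_mem_V
  · have e : C.rho⁻¹ * C.b * C.rho⁻¹⁻¹ = C.a := by
      conv_lhs => rw [← C.rho_a]
      group
    rw [e]; exact C.a_mem_V

/-- `x ↦ ρ⁻¹ x ρ` on `D`. -/
noncomputable def rot : C.D →* C.D :=
  MonoidHom.mk' (fun d => ⟨C.rho⁻¹ * d * C.rho, rho_conj_D d.2⟩) fun d d' => Subtype.ext (by
    show C.rho⁻¹ * ((d : G) * d') * C.rho = C.rho⁻¹ * d * C.rho * (C.rho⁻¹ * d' * C.rho)
    group)

theorem rot_coe (d : C.D) : ((rot d : C.D) : G) = C.rho⁻¹ * d * C.rho := rfl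

theorem apply_conj_D (β : C.D →* ℂˣ) (e d : C.D) : β (e * d * e⁻¹) = β d := by
  rw [map_mul, map_mul, map_inv, mul_inv_cancel_comm]

theorem rot_three (β : C.D →* ℂˣ) (d : C.D) : β (rot (rot (rot d))) = β d := by
  set n := C.rho * C.rho * C.rho with hn
  have h1 : ∀ v, C.rho * (C.rho * (C.rho * v * C.rho⁻¹) * C.rho⁻¹) * C.rho⁻¹ = v → Commute n v :=
    fun v h => by
    show n * v = v * n
    calc n * v = C.rho * (C.rho * (C.rho * v * C.rho⁻¹) * C.rho⁻¹) * C.rho⁻¹ * n := by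
          rw [hn]; group
      _ = _ := by rw [h]
  have hrc : C.rho * (C.a * C.b) * C.rho⁻¹ = C.a := C.rho_c
  obtain ⟨e, he, v, hv, hev⟩ := C.exists_mul_of_commute
    (h1 C.a (by rw [C.rho_a, C.rho_b, hrc])) (h1 C.b (by rw [C.rho_b, hrc, C.rho_a]))
  have : rot (rot (rot d)) = (⟨e, he⟩ : C.D)⁻¹ * d * (⟨e, he⟩ : C.D)⁻¹⁻¹ := Subtype.ext (by
    simp only [rot_coe, inv_inv]
    push_cast
    calc C.rho⁻¹ * (C.rho⁻¹ * (C.rho⁻¹ * (d : G) * C.rho) * C.rho) * C.rho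
        = n⁻¹ * d * n := by rw [hn]; group
      _ = v⁻¹ * (e⁻¹ * d * e) * v := by rw [hev]; group
      _ = e⁻¹ * d * e := by
        rw [((commute_V_D hv (mul_mem (mul_mem (inv_mem he) d.2) he)).inv_left).eq,
          inv_mul_cancel_right])
  rw [this, apply_conj_D]

/-- `G`-conjugate elements of `D` are conjugate under `D` and powers of `ρ`. -/
theorem fusion_D {d d' g : G} (hd : d ∈ C.D) (hd' : d' ∈ C.D) (hg : g * d * g⁻¹ = d') :
    ∃ e ∈ C.D, d' = e * d * e⁻¹ ∨ d' = C.rho * (e * d * e⁻¹) * C.rho⁻¹ ∨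
      d' = C.rho * (C.rho * (e * d * e⁻¹) * C.rho⁻¹) * C.rho⁻¹ := by
  haveI : Fact (Nat.Prime 2) := ⟨Nat.prime_two⟩
  obtain ⟨S, hS⟩ := C.exists_sylow_V
  set K := centralizer ({d'} : Set G)
  have hV : (S : Subgroup G) ≤ K := by
    rw [hS]; intro v hv; exact mem_centralizer_singleton_iff.2 (commute_V_D hv hd').eq
  have hW : ((g • S : Sylow 2 G) : Subgroup G) ≤ K := by
    rintro _ ⟨v, hv, rfl⟩
    rw [SetLike.mem_coe, hS] at hv
    refine mem_centralizer_singleton_iff.2 ?_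
    show g * v * g⁻¹ * d' = d' * (g * v * g⁻¹)
    calc g * v * g⁻¹ * d' = g * (v * d) * g⁻¹ := by rw [← hg]; group
      _ = g * (d * v) * g⁻¹ := by rw [(commute_V_D hv hd).eq]
      _ = _ := by rw [← hg]; group
  obtain ⟨k, hk⟩ := MulAction.exists_smul_eq K ((g • S).subtype hW) (S.subtype hV)
  have hnV : ∀ v ∈ C.V, ((k : G) * g) * v * ((k : G) * g)⁻¹ ∈ C.V := by
    intro v hv
    have hvW : g * v * g⁻¹ ∈ ((g • S : Sylow 2 G) : Subgroup G) := ⟨v, by rwa [SetLike.mem_coe, hS], rfl⟩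
    have hm : (⟨g * v * g⁻¹, hW hvW⟩ : K) ∈ (((g • S).subtype hW : Sylow 2 K) : Subgroup K) := hvW
    have hm2 : k * ⟨g * v * g⁻¹, hW hvW⟩ * k⁻¹ ∈ ((S.subtype hV : Sylow 2 K) : Subgroup K) := by
      rw [← hk]; exact ⟨_, hm, rfl⟩
    have hm3 : ((k * ⟨g * v * g⁻¹, hW hvW⟩ * k⁻¹ : K) : G) ∈ C.V := hS ▸ hm2
    rw [show ((k : G) * g) * v * ((k : G) * g)⁻¹ = (k : G) * (g * v * g⁻¹) * (k : G)⁻¹ by group]
    simpa using hm3
  have hnd : ((k : G) * g) * d * ((k : G) * g)⁻¹ = d' := by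
    rw [show ((k : G) * g) * d * ((k : G) * g)⁻¹ = (k : G) * (g * d * g⁻¹) * (k : G)⁻¹ by group,
      hg, mem_centralizer_singleton_iff.1 k.2, mul_inv_cancel_right]
  clear_value K
  set n := (k : G) * g
  -- an element normalising `V` and fixing `a` acts on `D` as an element of `D`
  have fix : ∀ m : G, m * C.a * m⁻¹ = C.a → m * C.b * m⁻¹ ∈ C.V →
      ∃ e ∈ C.D, m * d * m⁻¹ = e * d * e⁻¹ := by
    intro m hma hmb
    obtain ⟨w, hw, v, hv, rfl⟩ := C.exists_mul_V (C.mem_H.2 (mul_inv_eq_iff_eq_mul.1 hma))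
    have hvb : w * v * C.b * (w * v)⁻¹ = w * C.b * w⁻¹ := by
      calc _ = w * (v * C.b * v⁻¹) * w⁻¹ := by group
        _ = _ := by rw [(C.commute_of_mem_V hv C.b_mem_V).eq, mul_inv_cancel_right]
    rw [hvb] at hmb
    have hwD : w ∈ C.D := by
      rcases C.mem_V.1 hmb with e | e | e | e
      · exact absurd (conj_eq_one_iff.1 e) C.hb.2
      · refine absurd ?_ C.hne.symm
        calc C.b = w⁻¹ * (w * C.b * w⁻¹) * w := by group
          _ = C.a := by rw [e, mul_assoc, ← (C.commute_a hw).eq, inv_mul_cancel_left]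
      · exact C.mem_D.2 ⟨hw, mul_inv_eq_iff_eq_mul.1 e⟩
      · refine absurd ?_ (a_notMem_U (C := C))
        have h2 : C.a = w * (C.b * w⁻¹ * C.b) := by
          calc C.a = C.c * C.b := by rw [c, mul_assoc, C.hb.1, mul_one]
            _ = _ := by rw [← e]; group
        rw [h2]
        exact mul_mem hw (b_conj_mem_U (inv_mem hw))
    refine ⟨w, hwD, ?_⟩
    calc w * v * d * (w * v)⁻¹ = w * (v * d * v⁻¹) * w⁻¹ := by group
      _ = _ := by rw [(commute_V_D hv hd).eq, mul_inv_cancel_right]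
  have hrV : ∀ v ∈ C.V, C.rho⁻¹ * v * C.rho⁻¹⁻¹ ∈ C.V := fun v hv =>
    conj_mem (inv_mem C.rho_mem) hv
  rcases C.mem_V.1 (hnV _ C.a_mem_V) with e | e | e | e
  · exact absurd (conj_eq_one_iff.1 e) C.ha.2
  · obtain ⟨w, hw, hwd⟩ := fix n e (hnV _ C.b_mem_V)
    exact ⟨w, hw, Or.inl (by rw [← hnd, hwd])⟩
  · obtain ⟨w, hw, hwd⟩ := fix (C.rho⁻¹ * n)
      (by
        calc C.rho⁻¹ * n * C.a * (C.rho⁻¹ * n)⁻¹ = C.rho⁻¹ * (n * C.a * n⁻¹) * C.rho := by group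
          _ = C.a := by rw [e, ← C.rho_a]; group)
      (by
        rw [show C.rho⁻¹ * n * C.b * (C.rho⁻¹ * n)⁻¹ = C.rho⁻¹ * (n * C.b * n⁻¹) * C.rho⁻¹⁻¹ by group]
        exact hrV _ (hnV _ C.b_mem_V))
    refine ⟨w, hw, Or.inr (Or.inl ?_)⟩
    rw [← hwd, ← hnd]; group
  · obtain ⟨w, hw, hwd⟩ := fix (C.rho⁻¹ * (C.rho⁻¹ * n))
      (by
        calc C.rho⁻¹ * (C.rho⁻¹ * n) * C.a * (C.rho⁻¹ * (C.rho⁻¹ * n))⁻¹
            = C.rho⁻¹ * (C.rho⁻¹ * (n * C.a * n⁻¹) * C.rho) * C.rho := by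
              simp only [mul_inv_rev, inv_inv, mul_assoc]
          _ = C.a := by
            rw [e, show C.c = C.rho * (C.rho * C.a * C.rho⁻¹) * C.rho⁻¹ by
              rw [C.rho_a, C.rho_b]; rfl]
            group)
      (by
        rw [show C.rho⁻¹ * (C.rho⁻¹ * n) * C.b * (C.rho⁻¹ * (C.rho⁻¹ * n))⁻¹ =
          C.rho⁻¹ * (C.rho⁻¹ * (n * C.b * n⁻¹) * C.rho⁻¹⁻¹) * C.rho⁻¹⁻¹ by
            simp only [mul_inv_rev, inv_inv, mul_assoc]]
        exact hrV _ (hrV _ (hnV _ C.b_mem_V)))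
    refine ⟨w, hw, Or.inr (Or.inr ?_)⟩
    rw [← hwd, ← hnd]; group

end CfsgLib.GW.CaseI.Ctx
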