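import Cfsg.Agent.GW.Linear.Localise
import Cfsg.Agent.Blocks.Section

/-!
# Gorenstein–Walter, linear characters: the coefficients on the coset `a U`

`coef β χ` is the multiplicity of the extension of `β` in the function `x ↦ χ (a x)` on `U`.  It is
an integer of the same parity as that of the previous rotation, the squares sum to four, and a
character with nonzero coefficient takes on `a U` a combination of the three rotations.
-/

set_option autoImplicit false
set_option linter.style.haveILetI false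
set_option linter.unusedSectionVars false

namespace CfsgLib.GW.CaseI.Ctx

open Cfsg Finset CfsgLib.Block CfsgLib.Block.Chr CfsgLib.Char CfsgLib.GW.Linear
open scoped ComplexConjugate
open CfsgLib.DGroup (conj_mem odd_orderOf eq_one_of_sq)

universe u

variable {G : Type u} [Group G] [Fintype G] {C : Ctx G}

theorem sum_split (hI : C.InvComm) [DecidablePred (· ∈ C.D)] [DecidablePred (· ∈ C.U0)]
    (f : G → ℂ) :
    ∑ x ∈ C.Uf, f x =
      ∑ d ∈ univ.filter (· ∈ C.D), ∑ y ∈ univ.filter (· ∈ C.U0), f (d * y) := by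
  classical
  rw [← sum_product']
  refine (sum_bij (fun p _ => p.1 * p.2) (fun p hp => ?_) (fun p hp p' hp' h => ?_)
    (fun x hx => ?_) fun p _ => rfl).symm
  · simp only [mem_product, mem_filter, mem_univ, true_and] at hp
    exact mem_Uf.2 (mul_mem (C.D_le_U hp.1) (C.U0_le_U hp.2))
  · simp only [mem_product, mem_filter, mem_univ, true_and] at hp hp'
    obtain ⟨h1, h2⟩ := decomp_unique hI hp.1 hp'.1 hp.2 hp'.2 h
    exact Prod.ext h1 h2
  · obtain ⟨d, hd, y, hy, rfl⟩ := C.exists_mul_U0 (mem_Uf.1 hx)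
    exact ⟨(d, y), by simp [hd, hy], rfl⟩

theorem card_U_split (hI : C.InvComm) : Nat.card C.U = Nat.card C.D * Nat.card C.U0 := by
  classical
  have h := sum_split hI (fun _ => (1 : ℂ))
  simp only [sum_const, card_Uf, nsmul_eq_mul, mul_one] at h
  rw [Nat.card_eq_fintype_card (α := C.D), Nat.card_eq_fintype_card (α := C.U0),
    Fintype.card_subtype, Fintype.card_subtype]
  exact_mod_cast h

theorem card_U_ne_zero : (Nat.card C.U : ℂ) ≠ 0 := Nat.cast_ne_zero.2 Nat.card_pos.ne'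

theorem sum_psi_mul (hI : C.InvComm) (β β' : C.D →* ℂˣ) [Decidable (β' = β)] :
    ∑ x ∈ C.Uf, psi hI β' x⁻¹ * psi hI β x = if β' = β then (Nat.card C.U : ℂ) else 0 := by
  classical
  rw [sum_split hI, sum_congr rfl fun d hd => sum_congr rfl fun y hy => show
    psi hI β' (d * y)⁻¹ * psi hI β (d * y) = psi hI β' d⁻¹ * psi hI β d by
      obtain ⟨-, hd⟩ := mem_filter.1 hd
      obtain ⟨-, hy⟩ := mem_filter.1 hy
      rw [mul_inv_rev, psi_mul hI β' (inv_mem (C.U0_le_U hy)) (inv_mem (C.D_le_U hd)),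
        psi_mul hI β (C.D_le_U hd) (C.U0_le_U hy), psi_U0 hI β' (inv_mem hy), psi_U0 hI β hy,
        one_mul, mul_one]]
  simp only [sum_const, nsmul_eq_mul, ← mul_sum, sum_D_psi hI β]
  split_ifs with h
  · rw [card_U_split hI, Nat.card_eq_fintype_card (α := C.U0), Fintype.card_subtype]
    push_cast; ring
  · rw [mul_zero]

theorem psi_eq_conj (hI : C.InvComm) (β : C.D →* ℂˣ) {x : G} (hx : x ∈ C.U) :
    conj (psi hI β x) = psi hI β x⁻¹ := by
  let L : C.U →* ℂˣ := β.comp (pr hI)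
  have h := conj_irr (⟨fun g => (L g : ℂ), isIrrCharacter_ofHom L⟩ : IrrCharacter C.U) ⟨x, hx⟩
  rw [psi_of_mem hI β hx, psi_of_mem hI β (inv_mem hx)]
  exact h

variable (hI : C.InvComm) (β : C.D →* ℂˣ)

/-- The coefficient of the extension of `β` in `χ` on `a U`. -/
noncomputable def coef (χ : G → ℂ) : ℂ :=
  (Nat.card C.U : ℂ)⁻¹ * ∑ x ∈ C.Uf, χ (C.a * x) * psi hI β x⁻¹

/-! ### Extensions to `C(a)` -/

theorem eq_one_of_mem_U_V {x : G} (hU : x ∈ C.U) (hV : x ∈ C.V) : x = 1 :=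
  eq_one_of_sq (C.sq_of_mem_V hV) (odd_orderOf C.odd_U hU)

theorem decompV_unique {x x' v v' : G} (hx : x ∈ C.U) (hx' : x' ∈ C.U) (hv : v ∈ C.V)
    (hv' : v' ∈ C.V) (h : x * v = x' * v') : x = x' ∧ v = v' := by
  have e : x'⁻¹ * x = v' * v⁻¹ := by
    calc x'⁻¹ * x = x'⁻¹ * (x * v) * v⁻¹ := by group
      _ = _ := by rw [h]; group
  have h1 := eq_one_of_mem_U_V (C := C) (mul_mem (inv_mem hx') hx) (e ▸ mul_mem hv' (inv_mem hv))
  obtain rfl : x = x' := (inv_mul_eq_one.1 h1).symm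
  exact ⟨rfl, mul_left_cancel h⟩

/-- The sign character of `V` trivial on `w`. -/
noncomputable def sgn (w v : G) : ℂ := by
  classical exact if v = 1 ∨ v = w then 1 else -1

theorem sum_Ha_split [Fintype (Ha C)] [DecidablePred (· ∈ C.V)] (f : G → ℂ) :
    ∑ h : Ha C, f h = ∑ v ∈ univ.filter (· ∈ C.V), ∑ x ∈ C.Uf, f (x * v) := by
  classical
  rw [← sum_product']
  refine (sum_bij (fun p hp => ⟨p.2 * p.1, by
      rw [mem_product, mem_filter, mem_Uf] at hp
      exact C.H.mul_mem (C.U_le_H hp.2) (C.V_le_H hp.1.2)⟩)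
    (fun p _ => mem_univ _) (fun p hp p' hp' h => ?_) (fun h _ => ?_) fun p _ => rfl).symm
  · rw [mem_product, mem_filter, mem_Uf] at hp hp'
    obtain ⟨h1, h2⟩ := decompV_unique hp.2 hp'.2 hp.1.2 hp'.1.2 (congrArg Subtype.val h)
    exact Prod.ext h2 h1
  · obtain ⟨x, hx, v, hv, e⟩ := C.exists_mul_V h.2
    exact ⟨(v, x), by simp [hv, mem_Uf, hx], Subtype.ext e.symm⟩

theorem sum_V [DecidablePred (· ∈ C.V)] (f : G → ℂ) :
    ∑ v ∈ univ.filter (· ∈ C.V), f v = f 1 + f C.a + f C.b + f C.c := by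
  classical
  have hac : C.a ≠ C.c := fun h => C.hb.2 (mul_eq_left.1 h.symm)
  have hbc : C.b ≠ C.c := fun h => C.ha.2 (mul_eq_right.1 h.symm)
  rw [show univ.filter (· ∈ C.V) = {1, C.a, C.b, C.c} by ext v; simp [C.mem_V],
    sum_insert (by simp [C.ha.2.symm, C.hb.2.symm, C.hc.2.symm]),
    sum_insert (by simp [C.hne, hac]), sum_insert (by simp [hbc]), sum_singleton]
  ring

theorem card_cent_a : Nat.card C.H = 4 * Nat.card C.U := by
  classical
  haveI : Fintype (Ha C) := Fintype.ofFinite _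
  have h := sum_Ha_split (C := C) (fun _ => (1 : ℂ))
  simp only [sum_const, card_Uf, nsmul_eq_mul, mul_one] at h
  show Nat.card (Ha C) = _
  have h4 : (univ.filter (· ∈ C.V)).card = 4 := by
    rw [← C.card_V, Nat.card_eq_fintype_card, Fintype.card_subtype]
  rw [h4, Finset.card_univ, ← Nat.card_eq_fintype_card] at h
  exact_mod_cast h

/-- A section sum over the coset of `v`. -/
noncomputable def cosetSum (χ : G → ℂ) (v : G) : ℂ := ∑ x ∈ C.Uf, χ (x * v) * psi hI β x⁻¹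

theorem sgn_one (w : G) : sgn w 1 = 1 := by classical exact if_pos (Or.inl rfl)

theorem sgn_self (w : G) : sgn w w = 1 := by classical exact if_pos (Or.inr rfl)

theorem sgn_other {w v : G} (h1 : v ≠ 1) (h : v ≠ w) : sgn w v = -1 := by
  classical exact if_neg (by rintro (e | e) <;> contradiction)

theorem sgn_mul {w : G} (hw : w ∈ C.V) (hw1 : w ≠ 1) {v v' : G} (hv : v ∈ C.V) (hv' : v' ∈ C.V) :
    sgn w (v * v') = sgn w v * sgn w v' := by
  have haa := C.ha.1
  have hbb := C.hb.1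
  have hcc := C.hc.1
  have hba : C.b * C.a = C.c := C.hab.eq.symm
  have h1 : C.a * C.b = C.c := rfl
  have h2 : C.a * C.c = C.b := by rw [c, ← mul_assoc, haa, one_mul]
  have h3 : C.c * C.a = C.b := by rw [c, mul_assoc, hba, c, ← mul_assoc, haa, one_mul]
  have h4 : C.b * C.c = C.a := by rw [c, ← mul_assoc, C.hab.eq.symm, mul_assoc, hbb, mul_one]
  have h5 : C.c * C.b = C.a := by rw [c, mul_assoc, hbb, mul_one]
  have hac : C.a ≠ C.c := fun h => C.hb.2 (mul_eq_left.1 h.symm)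
  have hbc : C.b ≠ C.c := fun h => C.ha.2 (mul_eq_right.1 h.symm)
  rcases C.mem_V.1 hw with rfl | rfl | rfl | rfl
  · exact absurd rfl hw1
  all_goals
    rcases C.mem_V.1 hv with rfl | rfl | rfl | rfl <;>
      rcases C.mem_V.1 hv' with rfl | rfl | rfl | rfl <;>
      simp [haa, hbb, hcc, hba, h1, h2, h3, h4, h5, sgn_one, sgn_self,
        sgn_other C.ha.2 C.hne, sgn_other C.ha.2 hac, sgn_other C.hb.2 C.hne.symm,
        sgn_other C.hb.2 hbc, sgn_other C.hc.2 hac.symm, sgn_other C.hc.2 hbc.symm]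

/-- The multiplicity of a linear extension is a natural number. -/
theorem exists_mult (χ : IrrCharacter G) (σ : G → ℂ)
    (hσ : ∀ v ∈ C.V, ∀ v' ∈ C.V, σ (v * v') = σ v * σ v') (hσ1 : σ 1 = 1)
    [DecidablePred (· ∈ C.V)] :
    ∃ n : ℕ, ∑ v ∈ univ.filter (· ∈ C.V), σ v * cosetSum hI β (χ : G → ℂ) v =
      (4 * Nat.card C.U : ℕ) * (n : ℂ) := by
  classical
  haveI : Fintype (Ha C) := Fintype.ofFinite _
  choose x hx v hv e using fun h : Ha C => C.exists_mul_V h.2
  have hne : ∀ h, psi hI β (x h) * σ (v h) ≠ 0 := fun h => by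
    refine mul_ne_zero (psi_ne_zero hI β (hx h)) fun h0 => ?_
    have := hσ _ (hv h) _ (hv h)
    rw [C.sq_of_mem_V (hv h), hσ1, h0, mul_zero] at this
    exact one_ne_zero this
  let L : Ha C →* ℂˣ := MonoidHom.mk' (fun h => Units.mk0 _ (hne h)) fun h h' => Units.ext (by
    have hvx : v h * x h' * (v h)⁻¹ ∈ C.U := conj_mem (V_normalizer_U (hv h)) (hx h')
    obtain ⟨e1, e2⟩ := decompV_unique (hx (h * h')) (mul_mem (hx h) hvx) (hv (h * h'))
      (mul_mem (hv h) (hv h')) (by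
        calc x (h * h') * v (h * h') = (h : G) * (h' : G) := (e (h * h')).symm
          _ = _ := by rw [e h, e h']; group)
    show psi hI β (x (h * h')) * σ (v (h * h')) = psi hI β (x h) * σ (v h) *
      (psi hI β (x h') * σ (v h'))
    rw [e1, e2, psi_mul hI β (hx h) hvx, psi_conj hI β (C.V_le_H (hv h)) (hx h'),
      hσ _ (hv h) _ (hv h')]
    ring)
  obtain ⟨n, hn⟩ := IsCharacter.exists_classInner_eq_natCast'
    (IsCharacter.restrict (isCharacter_irr χ) (Ha C)) (isCharacter_ofHom L)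
  refine ⟨n, ?_⟩
  rw [← hn, classInner, show Nat.card (Ha C) = 4 * Nat.card C.U from card_cent_a,
    mul_inv_cancel_left₀ (Nat.cast_ne_zero.2 (mul_pos (by norm_num) Nat.card_pos).ne')]
  let F : G → ℂ := fun g => if hg : g ∈ C.H then (χ : G → ℂ) g * conj ((L ⟨g, hg⟩ : ℂˣ) : ℂ) else 0
  rw [show ∑ h : Ha C, (χ : G → ℂ) h * conj ((L h : ℂˣ) : ℂ) = ∑ h : Ha C, F h from
    sum_congr rfl fun h _ => by simp only [F]; rw [dif_pos (show (h : G) ∈ C.H from h.2)],
    sum_Ha_split F]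
  refine sum_congr rfl fun w hw => ?_
  rw [cosetSum, mul_sum]
  refine sum_congr rfl fun y hy => ?_
  have hyH : y * w ∈ C.H := C.H.mul_mem (C.U_le_H (mem_Uf.1 hy)) (C.V_le_H (mem_filter.1 hw).2)
  have hsre : conj (σ w) = σ w := by
    have h2 := hσ _ (mem_filter.1 hw).2 _ (mem_filter.1 hw).2
    rw [C.sq_of_mem_V (mem_filter.1 hw).2, hσ1] at h2
    rcases mul_self_eq_one_iff.1 h2.symm with h | h <;> rw [h] <;> simp
  obtain ⟨e1, e2⟩ := decompV_unique (hx ⟨_, hyH⟩) (mem_Uf.1 hy) (hv ⟨_, hyH⟩)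
    (mem_filter.1 hw).2 (e ⟨_, hyH⟩).symm
  simp only [F, dif_pos hyH, L, MonoidHom.mk'_apply, Units.val_mk0]
  rw [e1, e2, map_mul, psi_eq_conj hI β (mem_Uf.1 hy), hsre]
  ring

theorem cosetSum_a (χ : IrrCharacter G) :
    cosetSum hI β (χ : G → ℂ) C.a = Nat.card C.U * coef hI β (χ : G → ℂ) := by
  rw [coef, mul_inv_cancel_left₀ card_U_ne_zero, cosetSum]
  exact sum_congr rfl fun x _ => by rw [classFun_mul_comm (isClassFunction_irr χ)]

/-- The coefficient is an integer, of the same parity as the coset sum at `b`. -/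
theorem exists_int (χ : IrrCharacter G) :
    ∃ z w : ℤ, coef hI β (χ : G → ℂ) = z ∧
      cosetSum hI β (χ : G → ℂ) C.b = Nat.card C.U * (w : ℂ) ∧ (2 : ℤ) ∣ z - w := by
  classical
  have hac : C.a ≠ C.c := fun h => C.hb.2 (mul_eq_left.1 h.symm)
  have hbc : C.b ≠ C.c := fun h => C.ha.2 (mul_eq_right.1 h.symm)
  obtain ⟨n0, h0⟩ := exists_mult hI β χ (fun _ => 1) (fun _ _ _ _ => (one_mul 1).symm) rfl
  obtain ⟨n1, h1⟩ := exists_mult hI β χ (sgn C.a) (fun _ hv _ hv' => sgn_mul C.a_mem_V C.ha.2 hv hv')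
    (sgn_one _)
  obtain ⟨n2, h2⟩ := exists_mult hI β χ (sgn C.b) (fun _ hv _ hv' => sgn_mul C.b_mem_V C.hb.2 hv hv')
    (sgn_one _)
  obtain ⟨n3, h3⟩ := exists_mult hI β χ (sgn C.c) (fun _ hv _ hv' => sgn_mul C.c_mem_V C.hc.2 hv hv')
    (sgn_one _)
  simp only [sum_V, one_mul, sgn_one, sgn_self, sgn_other C.hb.2 C.hne.symm,
    sgn_other C.hc.2 hac.symm, sgn_other C.ha.2 C.hne, sgn_other C.hc.2 hbc.symm,
    sgn_other C.ha.2 hac, sgn_other C.hb.2 hbc, cosetSum_a] at h0 h1 h2 h3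
  push_cast at h0 h1 h2 h3
  refine ⟨(n0 : ℤ) + n1 - n2 - n3, (n0 : ℤ) - n1 + n2 - n3, ?_, ?_,
    ⟨(n1 : ℤ) - n2, by ring⟩⟩
  · refine mul_left_cancel₀ (card_U_ne_zero (C := C)) ?_
    push_cast
    linear_combination (h0 + h1 - h2 - h3) / 4
  · push_cast
    linear_combination (h0 - h1 + h2 - h3) / 4

/-- Columns on the section of `a`. -/
theorem sum_coef_mul (β' : C.D →* ℂˣ) [Fintype (IrrCharacter G)] [Decidable (β' = β)] :
    ∑ χ : IrrCharacter G, coef hI β (χ : G → ℂ) * coef hI β' (χ : G → ℂ) =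
      if β' = β then 4 else 0 := by
  classical
  haveI : Fintype (Ha C) := Fintype.ofFinite _
  have hreal : ∀ χ : IrrCharacter G,
      coef hI β' (χ : G → ℂ) = conj (coef hI β' (χ : G → ℂ)) := fun χ => by
    obtain ⟨z, -, hz, -, -⟩ := exists_int hI β' χ
    rw [hz, map_intCast]
  have hexp : ∀ χ : IrrCharacter G, coef hI β (χ : G → ℂ) * coef hI β' (χ : G → ℂ) =
      (Nat.card C.U : ℂ)⁻¹ * (Nat.card C.U : ℂ)⁻¹ * ∑ x ∈ C.Uf, ∑ y ∈ C.Uf,
        psi hI β x⁻¹ * psi hI β' y * ((χ : G → ℂ) (C.a * x) * conj ((χ : G → ℂ) (C.a * y))) := by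
    intro χ
    rw [hreal χ, coef, coef, map_mul, map_inv₀, map_natCast, map_sum, mul_mul_mul_comm, sum_mul_sum]
    congr 1
    refine sum_congr rfl fun x _ => sum_congr rfl fun y hy => ?_
    rw [map_mul, psi_eq_conj hI β' (inv_mem (mem_Uf.1 hy)), inv_inv]
    ring
  rw [sum_congr rfl fun χ _ => hexp χ, ← mul_sum, sum_comm, sum_congr rfl fun x _ => sum_comm]
  have ha2 : orderOf C.a = 2 ^ 1 := by rw [pow_one, C.orderOf_a]
  have key : ∀ x ∈ C.Uf, ∑ y ∈ C.Uf, ∑ χ : IrrCharacter G,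
      psi hI β x⁻¹ * psi hI β' y * ((χ : G → ℂ) (C.a * x) * conj ((χ : G → ℂ) (C.a * y))) =
      (Nat.card C.H : ℂ) * (psi hI β x⁻¹ * psi hI β' x) := by
    intro x hx
    have hxU := mem_Uf.1 hx
    have hreg : ∀ z : Ha C, (z : G) ∈ C.U → ¬ 2 ∣ orderOf z := fun z hz => by
      rw [← Subgroup.orderOf_coe]
      exact Nat.two_dvd_ne_zero.2 (Nat.odd_iff.1 (odd_orderOf C.odd_U hz))
    set x' : Ha C := ⟨x, C.U_le_H hxU⟩
    have hterm : ∀ y ∈ C.Uf, ∑ χ : IrrCharacter G,
        psi hI β x⁻¹ * psi hI β' y * ((χ : G → ℂ) (C.a * x) * conj ((χ : G → ℂ) (C.a * y))) =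
        if IsConj (C.a * x) (C.a * y) then
          psi hI β x⁻¹ * psi hI β' x * Nat.card (Subgroup.centralizer ({x'} : Set (Ha C)))
        else 0 := by
      intro y hy
      rw [← mul_sum, column_orth]
      have hcc : Nat.card (Subgroup.centralizer ({C.a * x} : Set G)) =
          Nat.card (Subgroup.centralizer ({x'} : Set (Ha C))) :=
        card_centralizer_section Nat.prime_two ha2 x' (hreg x' hxU)
      split_ifs with hc
      · obtain ⟨g, hg⟩ := isConj_iff.1 hc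
        obtain ⟨hgH, hgx⟩ := fix_of_conj_section Nat.prime_two ha2 (y := x')
          (y' := (⟨y, C.U_le_H (mem_Uf.1 hy)⟩ : Ha C)) (hreg _ hxU) (hreg _ (mem_Uf.1 hy)) hg
        have e : psi hI β' y = psi hI β' x :=
          (congrArg (psi hI β') hgx).symm.trans (psi_conj hI β' hgH hxU)
        rw [e, hcc]
      · rw [mul_zero]
    rw [sum_congr rfl hterm, ← sum_filter, sum_const, nsmul_eq_mul]
    have hcnt : (C.Uf.filter fun y => IsConj (C.a * x) (C.a * y)).card =
        (univ.filter (IsConj x')).card := by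
      refine card_bij (fun y hy => (⟨y, C.U_le_H (mem_Uf.1 (mem_filter.1 hy).1)⟩ : Ha C))
        (fun y hy => ?_) (fun _ _ _ _ h => congrArg Subtype.val h) fun z hz => ?_
      · obtain ⟨h1, h2⟩ := mem_filter.1 hy
        exact mem_filter.2 ⟨mem_univ _, (isConj_section_iff Nat.prime_two ha2 (hreg x' hxU)
          (hreg _ (mem_Uf.1 h1))).1 h2⟩
      · obtain ⟨d, hd⟩ := isConj_iff.1 (mem_filter.1 hz).2
        have hzU : (z : G) ∈ C.U := by
          rw [← hd]; exact conj_mem (C.H_le_normalizer_U d.2) hxU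
        exact ⟨z, mem_filter.2 ⟨mem_Uf.2 hzU, (isConj_section_iff Nat.prime_two ha2 (hreg x' hxU)
          (hreg z hzU)).2 (mem_filter.1 hz).2⟩, rfl⟩
    rw [hcnt, card_class, show Nat.card C.H = Nat.card (Ha C) from rfl,
      ← Subgroup.index_mul_card (Subgroup.centralizer ({x'} : Set (Ha C)))]
    push_cast
    ring
  rw [sum_congr rfl key, ← mul_sum, sum_psi_mul hI β' β, card_cent_a]
  have hU := card_U_ne_zero (C := C)
  by_cases h : β' = β
  · rw [if_pos h, if_pos h.symm]; push_cast; field_simp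
  · rw [if_neg h, if_neg (Ne.symm h), mul_zero, mul_zero]

/-- Orthogonality to the degrees. -/
theorem sum_coef_mul_degree [Fintype (IrrCharacter G)] :
    ∑ χ : IrrCharacter G, coef hI β (χ : G → ℂ) * (χ : G → ℂ) 1 = 0 := by
  classical
  simp only [coef, mul_assoc, ← mul_sum, sum_mul]
  rw [sum_comm, sum_eq_zero, mul_zero]
  intro x hx
  rw [sum_congr rfl (g := fun χ : IrrCharacter G =>
      psi hI β x⁻¹ * ((χ : G → ℂ) (C.a * x) * conj ((χ : G → ℂ) 1)))
      (fun χ _ => by rw [conj_irr, inv_one]; ring), ← mul_sum, column_orth, if_neg, mul_zero]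
  intro hc
  exact a_notMem_U (C := C) (by
    rw [eq_inv_of_mul_eq_one_left (isConj_one_left.1 hc)]; exact inv_mem (mem_Uf.1 hx))

end CfsgLib.GW.CaseI.Ctx
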