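import Cfsg.Agent.GW.Linear.Base
import Cfsg.Agent.GW.Linear.Tools

/-!
# Gorenstein–Walter, linear characters: localisation

If the blocks of two irreducible characters of `C(a)` induce one block of `G` and one of them
restricts to `U` as a multiple of the extension of `β`, then so does the other for `β` or one of
its rotations.
-/

set_option autoImplicit false
set_option linter.style.haveILetI false
set_option linter.unusedSectionVars false

namespace CfsgLib.GW.CaseI.Ctx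

open Cfsg Finset CfsgLib.Block CfsgLib.Block.Chr CfsgLib.Char CfsgLib.GW.Linear
open scoped ComplexConjugate
open CfsgLib.DGroup (conj_mem odd_orderOf)

universe u

variable {G : Type u} [Group G] [Fintype G] {C : Ctx G}

/-- The centraliser of `a`. -/
abbrev Ha (C : Ctx G) : Subgroup G := Subgroup.centralizer ({C.a} : Set G)

/-- `U` as a finite set. -/
noncomputable def Uf (C : Ctx G) : Finset G := by
  classical exact univ.filter (· ∈ C.U)

theorem mem_Uf {x : G} : x ∈ C.Uf ↔ x ∈ C.U := by simp [Uf]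

theorem card_Uf : C.Uf.card = Nat.card C.U := by
  classical
  rw [Uf, Nat.card_eq_fintype_card, Fintype.card_subtype]

/-- `U` inside the centraliser of `a`. -/
noncomputable abbrev NU (C : Ctx G) : Subgroup (Ha C) := C.U.subgroupOf (Ha C)

instance normal_NU : (NU C).Normal := ⟨fun n hn g => by
  rw [Subgroup.mem_subgroupOf] at hn ⊢
  exact conj_mem (C.H_le_normalizer_U g.2) hn⟩

theorem sum_NU [Fintype (Ha C)] [Fintype (NU C)] (f : G → ℂ) :
    ∑ n : NU C, f ((n : Ha C) : G) = ∑ x ∈ C.Uf, f x :=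
  sum_bij (fun (n : NU C) _ => ((n : Ha C) : G)) (fun n _ => mem_Uf.2 n.2)
    (fun _ _ _ _ e => Subtype.ext (Subtype.ext e))
    (fun x hx => ⟨⟨⟨x, C.U_le_H (mem_Uf.1 hx)⟩, mem_Uf.1 hx⟩, mem_univ _, rfl⟩) fun _ _ => rfl

theorem sum_Ha [Fintype (Ha C)] (f : G → ℂ) (hf : ∀ h : Ha C, (h : G) ∉ C.U → f h = 0) :
    ∑ h : Ha C, f h = ∑ x ∈ C.Uf, f x := by
  haveI : Fintype (NU C) := Fintype.ofFinite _
  rw [sum_eq_sum_subgroup (NU C) (fun h : Ha C => f h) fun h hh => hf h hh]
  exact sum_NU f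

variable (hI : C.InvComm) (β : C.D →* ℂˣ)

/-- The first rotation of a linear character of `D`. -/
noncomputable abbrev rot1 : C.D →* ℂˣ := β.comp rot

/-- The second rotation. -/
noncomputable abbrev rot2 : C.D →* ℂˣ := (rot1 β).comp rot

theorem isIntegral_psi {x : G} (hx : x ∈ C.U) : IsIntegral ℤ (psi hI β x) := by
  refine isIntegral_of_pow_eq_one (m := Nat.card C.U) Nat.card_pos ?_
  rw [psi_of_mem hI β hx, ← Units.val_pow_eq_pow_val, ← map_pow, ← map_pow, pow_card_eq_one', map_one,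
    map_one, Units.val_one]

theorem psi_inv {x : G} (hx : x ∈ C.U) : psi hI β x⁻¹ * psi hI β x = 1 := by
  rw [← psi_mul hI β (inv_mem hx) hx, inv_mul_cancel, psi_one]

theorem psi_rot1 {d : G} (hd : d ∈ C.D) :
    psi hI (rot1 β) d = psi hI β (C.rho⁻¹ * d * C.rho) := by
  rw [psi_D hI _ hd, psi_D hI _ (rho_conj_D hd)]; rfl

theorem psi_rot2 {d : G} (hd : d ∈ C.D) :
    psi hI (rot2 β) d = psi hI (rot1 β) (C.rho⁻¹ * d * C.rho) :=
  psi_rot1 hI (rot1 β) hd

theorem psi_rot3 {d : G} (hd : d ∈ C.D) :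
    psi hI (rot2 β) (C.rho⁻¹ * d * C.rho) = psi hI β d := by
  rw [psi_D hI _ (rho_conj_D hd), psi_D hI _ hd]
  exact congrArg Units.val (rot_three β ⟨d, hd⟩)

/-- The sum of the inverses of the rotations. -/
noncomputable def orbSum (x : G) : ℂ :=
  psi hI β x⁻¹ + psi hI (rot1 β) x⁻¹ + psi hI (rot2 β) x⁻¹

theorem orbSum_conj {h x : G} (hh : h ∈ C.H) (hx : x ∈ C.U) :
    orbSum hI β (h * x * h⁻¹) = orbSum hI β x := by
  simp only [orbSum, show (h * x * h⁻¹)⁻¹ = h * x⁻¹ * h⁻¹ by group,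
    psi_conj hI _ hh (inv_mem hx)]

theorem orbSum_rho {d : G} (hd : d ∈ C.D) :
    orbSum hI β (C.rho * d * C.rho⁻¹) = orbSum hI β d := by
  have e : C.rho⁻¹ * (C.rho * d * C.rho⁻¹)⁻¹ * C.rho = d⁻¹ := by group
  have h := rho_D hd
  have h1 := psi_rot1 hI β (C.D.inv_mem h)
  have h2 := psi_rot2 hI β (C.D.inv_mem h)
  have h3 := psi_rot3 hI β (C.D.inv_mem h)
  rw [e] at h1 h2 h3
  rw [orbSum, orbSum, h1, h2, ← h3]
  ring

theorem orbSum_fusion {d d' : G} (hd : d ∈ C.D) (hd' : d' ∈ C.D) (h : IsConj d d') :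
    orbSum hI β d' = orbSum hI β d := by
  obtain ⟨g, hg⟩ := isConj_iff.1 h
  obtain ⟨e, he, h'⟩ := fusion_D hd hd' hg
  have hed : e * d * e⁻¹ ∈ C.D := mul_mem (mul_mem he hd) (inv_mem he)
  have h0 := orbSum_conj hI β (C.U_le_H (C.D_le_U he)) (C.D_le_U hd)
  rcases h' with rfl | rfl | rfl
  · exact h0
  · rw [orbSum_rho hI β hed, h0]
  · rw [orbSum_rho hI β (rho_D hed), orbSum_rho hI β hed, h0]

/-- The class function of `G` extending the orbit sum from `D`. -/
noncomputable def testD (x : G) : ℂ := by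
  classical exact if h : ∃ d ∈ C.D, IsConj x d then orbSum hI β h.choose else 0

theorem testD_of_D {x d : G} (hd : d ∈ C.D) (h : IsConj x d) : testD hI β x = orbSum hI β d := by
  classical
  have he : ∃ d ∈ C.D, IsConj x d := ⟨d, hd, h⟩
  rw [testD, dif_pos he]
  exact orbSum_fusion hI β hd he.choose_spec.1 (h.symm.trans he.choose_spec.2)

theorem testD_eq_zero {x : G} (h : ¬ ∃ d ∈ C.D, IsConj x d) : testD hI β x = 0 := by
  classical exact dif_neg h

theorem isClassFunction_testD : IsClassFunction G (testD hI β) := fun x g => by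
  have hxy : IsConj x (g * x * g⁻¹) := isConj_iff.2 ⟨g, rfl⟩
  by_cases h : ∃ d ∈ C.D, IsConj x d
  · obtain ⟨d, hd, hc⟩ := h
    rw [testD_of_D hI β hd hc, testD_of_D hI β hd (hxy.symm.trans hc)]
  · rw [testD_eq_zero hI β h, testD_eq_zero hI β fun ⟨d, hd, hc⟩ => h ⟨d, hd, hxy.trans hc⟩]

theorem isIntegral_testD (x : G) : IsIntegral ℤ (testD hI β x) := by
  by_cases h : ∃ d ∈ C.D, IsConj x d
  · obtain ⟨d, hd, hc⟩ := h
    rw [testD_of_D hI β hd hc, orbSum]
    have := inv_mem (C.D_le_U hd)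
    exact ((isIntegral_psi hI _ this).add (isIntegral_psi hI _ this)).add (isIntegral_psi hI _ this)
  · rw [testD_eq_zero hI β h]; exact isIntegral_zero

theorem mem_U_of_isConj {x d : G} (hd : d ∈ C.U) (h : IsConj x d) (hx : x ∈ C.H) : x ∈ C.U := by
  obtain ⟨g, hg⟩ := isConj_iff.1 h
  refine C.mem_U_of_odd hx ?_
  rw [← CfsgLib.Invol.orderOf_conj_eq g x, hg]
  exact odd_orderOf C.odd_U hd

theorem testD_eq_zero_of_notMem {x : G} (hx : x ∈ C.H) (h : x ∉ C.U) : testD hI β x = 0 :=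
  testD_eq_zero hI β fun ⟨_, hd, hc⟩ => h (mem_U_of_isConj (C.D_le_U hd) hc hx)

theorem sum_D_psi (β' : C.D →* ℂˣ) [DecidablePred (· ∈ C.D)] [Decidable (β' = β)] :
    ∑ d ∈ univ.filter (· ∈ C.D), psi hI β' d⁻¹ * psi hI β d =
      if β' = β then (Nat.card C.D : ℂ) else 0 := by
  classical
  rw [sum_subtype (univ.filter (· ∈ C.D)) (p := (· ∈ C.D)) (fun x => by simp)
    (fun d => psi hI β' d⁻¹ * psi hI β d)]
  let f : C.D →* ℂ := (Units.coeHom ℂ).comp ((β'⁻¹ : C.D →* ℂˣ) * β)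
  have hf : ∀ d : C.D, psi hI β' (d : G)⁻¹ * psi hI β d = f d := fun d => by
    rw [psi_D hI β' (inv_mem d.2), psi_D hI β d.2, ← Units.val_mul]
    simp only [f, MonoidHom.comp_apply, MonoidHom.mul_apply, MonoidHom.inv_apply, Units.coeHom_apply]
    rw [← map_inv β']
    rfl
  rw [sum_congr rfl fun d _ => hf d, sum_hom_units f]
  by_cases h : β' = β
  · subst h
    rw [if_pos rfl, if_pos, Nat.card_eq_fintype_card]
    ext d; simp [f]
  · rw [if_neg h, if_neg, Nat.cast_zero]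
    intro hf'
    refine h (MonoidHom.ext fun d => ?_)
    have := DFunLike.congr_fun hf' d
    simp only [f, MonoidHom.comp_apply, MonoidHom.mul_apply, MonoidHom.inv_apply, Units.coeHom_apply,
      MonoidHom.one_apply, Units.val_eq_one] at this
    exact (inv_mul_eq_one.1 this)

theorem sum_D_orbSum [DecidablePred (· ∈ C.D)] :
    ∃ k : ℕ, Odd k ∧
      ∑ d ∈ univ.filter (· ∈ C.D), orbSum hI β d * psi hI β d = (k : ℂ) * Nat.card C.D := by
  classical
  simp only [orbSum, add_mul, sum_add_distrib, sum_D_psi hI β]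
  rw [if_pos trivial]
  by_cases h1 : rot1 β = β
  · have h2 : rot2 β = β := by rw [rot2, h1]; exact h1
    exact ⟨3, by decide, by rw [if_pos h1, if_pos h2]; push_cast; ring⟩
  · refine ⟨1, odd_one, ?_⟩
    rw [if_neg h1, if_neg]
    · push_cast; ring
    · intro h2
      refine h1 (MonoidHom.ext fun d => ?_)
      show β (rot d) = β d
      conv_lhs => rw [← h2]
      exact rot_three β d

variable {M : Ideal AlgInt} [M.IsPrime]

theorem memLocalRing_inv_natCast (hM : IsPModular 2 M) {n : ℕ} (hn : Odd n) :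
    MemLocalRing M (n : ℂ)⁻¹ :=
  memLocalRing_natCast_inv hM (Nat.two_dvd_ne_zero.2 (Nat.odd_iff.1 hn))

theorem not_memLocalIdeal_of_odd (hM : IsPModular 2 M) {n : ℕ} (hn : Odd n) :
    ¬ MemLocalIdeal M (n : ℂ) :=
  mt (memLocalIdeal_natCast_iff hM).1 (Nat.two_dvd_ne_zero.2 (Nat.odd_iff.1 hn))

/-- A sum over `U` of a `b`-invariant function is congruent to the sum over `D`. -/
theorem sum_Uf_cong (hM : IsPModular 2 M) [DecidablePred (· ∈ C.D)] (f : G → ℂ)
    (hf : ∀ x ∈ C.U, MemLocalRing M (f x)) (hfb : ∀ x ∈ C.U, f (C.b * x * C.b) = f x) :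
    MemLocalIdeal M (∑ x ∈ C.Uf, f x - ∑ d ∈ univ.filter (· ∈ C.D), f d) := by
  classical
  have h := pairing hM C.Uf f (fun x => C.b * x * C.b)
    (fun x hx => mem_Uf.2 (b_conj_mem_U (mem_Uf.1 hx))) (fun x _ => b_conj_conj x)
    (fun x hx => hf x (mem_Uf.1 hx)) (fun x hx => hfb x (mem_Uf.1 hx))
  have e : C.Uf.filter (fun x => C.b * x * C.b = x) = univ.filter (· ∈ C.D) := by
    ext x
    simp only [mem_filter, mem_Uf, mem_univ, true_and]
    exact ⟨fun h => mem_D_of_fixed h.1 h.2,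
      fun h => ⟨C.D_le_U h, conj_eq_of_commute C.hb.1 (C.mem_D.1 h).2⟩⟩
  rwa [e] at h

theorem testD_bxb (x : G) : testD hI β (C.b * x * C.b) = testD hI β x := by
  have h := isClassFunction_testD hI β x C.b
  rwa [conj_invol_eq C.hb.1] at h

/-- The value of the test function at a member restricting to a multiple of `psi β`. -/
theorem omega_eta [Fintype (Ha C)] {η : IrrCharacter (Ha C)}
    (hη : ∀ x : Ha C, (x : G) ∈ C.U → (η : Ha C → ℂ) x = (η : Ha C → ℂ) 1 * psi hI β x)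
    (a : G → ℂ) (ha : ∀ h : Ha C, (h : G) ∉ C.U → a h = 0) :
    omega (η : Ha C → ℂ) (resFun (Ha C) a) = ∑ x ∈ C.Uf, a x * psi hI β x := by
  rw [omega]
  have e : ∀ h : Ha C, resFun (Ha C) a h * (η : Ha C → ℂ) h =
      (η : Ha C → ℂ) 1 * (a h * psi hI β h) := by
    intro h
    by_cases hh : (h : G) ∈ C.U
    · rw [hη h hh]; show a h * _ = _; ring
    · show a h * _ = _
      rw [ha h hh]; ring
  rw [sum_congr rfl fun h _ => e h, ← mul_sum, mul_div_cancel_left₀ _ (irr_one_ne_zero η),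
    sum_Ha (fun x => a x * psi hI β x) fun h hh => by rw [ha h hh, zero_mul]]

end CfsgLib.GW.CaseI.Ctx
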