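import Cfsg.Agent.GW.Linear.Local

/-!
# Gorenstein–Walter, linear characters: the values on the coset `a U`
-/

set_option autoImplicit false
set_option linter.style.haveILetI false
set_option linter.unusedSectionVars false

namespace CfsgLib.GW.CaseI.Ctx

open Cfsg Finset CfsgLib.Block CfsgLib.Block.Chr CfsgLib.Char CfsgLib.GW.Linear
open scoped ComplexConjugate
open CfsgLib.DGroup (conj_mem odd_orderOf)

universe u

variable {G : Type u} [Group G] [Fintype G] {C : Ctx G} (hI : C.InvComm) (β : C.D →* ℂˣ)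
variable {M : Ideal AlgInt} [M.IsPrime]

/-- An element of `U` as an element of `U` inside the centraliser of `a`. -/
noncomputable abbrev toNU {x : G} (hx : x ∈ C.U) : NU C :=
  ⟨⟨x, C.U_le_H hx⟩, hx⟩

/-- A function on `U` extended by zero to `G`. -/
noncomputable def ext0 (θ : NU C → ℂ) (x : G) : ℂ := by
  classical exact if h : x ∈ C.U then θ (toNU h) else 0

theorem ext0_of_mem (θ : NU C → ℂ) {x : G} (hx : x ∈ C.U) : ext0 θ x = θ (toNU hx) := dif_pos hx

theorem ext0_coe (θ : NU C → ℂ) (n : NU C) : ext0 θ ((n : Ha C) : G) = θ n := by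
  exact dif_pos n.2

theorem ext0_conj_U (θ : IrrCharacter (NU C)) {u x : G} (hu : u ∈ C.U) (hx : x ∈ C.U) :
    ext0 (θ : NU C → ℂ) (u * x * u⁻¹) = ext0 (θ : NU C → ℂ) x := by
  rw [ext0_of_mem _ (mul_mem (mul_mem hu hx) (inv_mem hu)), ext0_of_mem _ hx,
    ← isClassFunction_irr θ (toNU hx) (toNU hu)]
  rfl

theorem NU_mem (n : NU C) : ((n : Ha C) : G) ∈ C.U := n.2

theorem isIntegral_ext0 (θ : IrrCharacter (NU C)) (x : G) :
    IsIntegral ℤ (ext0 (θ : NU C → ℂ) x) := by
  by_cases hx : x ∈ C.U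
  · rw [ext0_of_mem _ hx]; exact IsCharacter.isIntegral (isCharacter_irr θ) _
  · rw [ext0, dif_neg hx]; exact isIntegral_zero

/-- The symmetrised conjugate of a character of `U`. -/
noncomputable def pairSum (θ : NU C → ℂ) (x : G) : ℂ :=
  ext0 θ x⁻¹ + ext0 θ (C.b * x⁻¹ * C.b)

/-- Its class function on `G`, supported away from `D`. -/
noncomputable def testN (θ : NU C → ℂ) (x : G) : ℂ := by
  classical exact if h : ∃ y, IsConj x y ∧ y ∈ C.U ∧ ¬ Dlike (C := C) y
    then pairSum θ h.choose else 0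

theorem ext0_conj_H (θ : IrrCharacter (NU C)) {h x : G} (hh : h ∈ C.H) (hx : x ∈ C.U) :
    (ext0 (θ : NU C → ℂ) (h * x * h⁻¹) = ext0 (θ : NU C → ℂ) x ∧
      ext0 (θ : NU C → ℂ) (C.b * (h * x * h⁻¹) * C.b) = ext0 (θ : NU C → ℂ) (C.b * x * C.b)) ∨
    (ext0 (θ : NU C → ℂ) (h * x * h⁻¹) = ext0 (θ : NU C → ℂ) (C.b * x * C.b) ∧
      ext0 (θ : NU C → ℂ) (C.b * (h * x * h⁻¹) * C.b) = ext0 (θ : NU C → ℂ) x) := by
  obtain ⟨w, hw, v, hv, rfl⟩ := C.exists_mul_V hh
  have hbw : C.b * w * C.b ∈ C.U := b_conj_mem_U hw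
  have hbx : C.b * x * C.b ∈ C.U := b_conj_mem_U hx
  have e2 : ∀ z, C.b * (w * z * w⁻¹) * C.b =
      (C.b * w * C.b) * (C.b * z * C.b) * (C.b * w * C.b)⁻¹ := fun z => by
    rw [invol_mul C.hb.1, invol_mul C.hb.1, invol_inv C.hb.1]
  have hvc : v * x * v⁻¹ = x ∨ v * x * v⁻¹ = C.b * x * C.b := by
    rcases C.mem_V.1 hv with rfl | rfl | rfl | rfl
    · left; group
    · left; rw [(C.commute_a hx).symm.eq, mul_inv_cancel_right]
    · right; exact conj_invol_eq C.hb.1 x
    · right; rw [conj_invol_eq C.hc.1, C.conj_c hx]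
  rw [show w * v * x * (w * v)⁻¹ = w * (v * x * v⁻¹) * w⁻¹ by group]
  rcases hvc with e | e <;> rw [e, e2]
  · exact Or.inl ⟨ext0_conj_U θ hw hx, ext0_conj_U θ hbw hbx⟩
  · rw [b_conj_conj]
    exact Or.inr ⟨ext0_conj_U θ hw hbx, ext0_conj_U θ hbw hx⟩

theorem pairSum_conj (θ : IrrCharacter (NU C)) {h x : G} (hh : h ∈ C.H) (hx : x ∈ C.U) :
    pairSum (θ : NU C → ℂ) (h * x * h⁻¹) = pairSum (θ : NU C → ℂ) x := by
  rw [pairSum, pairSum, show (h * x * h⁻¹)⁻¹ = h * x⁻¹ * h⁻¹ by group]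
  rcases ext0_conj_H θ hh (inv_mem hx) with ⟨e1, e2⟩ | ⟨e1, e2⟩ <;> rw [e1, e2]
  exact add_comm _ _

theorem testN_of_nondlike (θ : IrrCharacter (NU C)) {x y : G} (hy : y ∈ C.U)
    (hn : ¬ Dlike (C := C) y) (h : IsConj x y) :
    testN (θ : NU C → ℂ) x = pairSum (θ : NU C → ℂ) y := by
  classical
  have he : ∃ y, IsConj x y ∧ y ∈ C.U ∧ ¬ Dlike (C := C) y := ⟨y, h, hy, hn⟩
  rw [testN, dif_pos he]
  obtain ⟨hc, hU, -⟩ := he.choose_spec
  obtain ⟨g, hg⟩ := isConj_iff.1 (hc.symm.trans h)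
  obtain ⟨k, hk, hkc⟩ := exists_conj_H hU hy hn hg
  rw [← hkc, pairSum_conj θ hk hU]

theorem testN_eq_zero (θ : NU C → ℂ) {x : G}
    (h : ¬ ∃ y, IsConj x y ∧ y ∈ C.U ∧ ¬ Dlike (C := C) y) : testN θ x = 0 := by
  classical exact dif_neg h

theorem isClassFunction_testN (θ : IrrCharacter (NU C)) :
    IsClassFunction G (testN (θ : NU C → ℂ)) := fun x g => by
  have hxy : IsConj x (g * x * g⁻¹) := isConj_iff.2 ⟨g, rfl⟩
  by_cases h : ∃ y, IsConj x y ∧ y ∈ C.U ∧ ¬ Dlike (C := C) y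
  · obtain ⟨y, hc, hy, hn⟩ := h
    rw [testN_of_nondlike θ hy hn hc, testN_of_nondlike θ hy hn (hxy.symm.trans hc)]
  · rw [testN_eq_zero _ h, testN_eq_zero _ fun ⟨y, hc, hy⟩ => h ⟨y, hxy.trans hc, hy⟩]

theorem isIntegral_pairSum (θ : IrrCharacter (NU C)) (x : G) :
    IsIntegral ℤ (pairSum (θ : NU C → ℂ) x) :=
  (isIntegral_ext0 θ _).add (isIntegral_ext0 θ _)

theorem isIntegral_testN (θ : IrrCharacter (NU C)) (x : G) :
    IsIntegral ℤ (testN (θ : NU C → ℂ) x) := by
  by_cases h : ∃ y, IsConj x y ∧ y ∈ C.U ∧ ¬ Dlike (C := C) y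
  · obtain ⟨y, hc, hy, hn⟩ := h
    rw [testN_of_nondlike θ hy hn hc]; exact isIntegral_pairSum θ y
  · rw [testN_eq_zero _ h]; exact isIntegral_zero

theorem testN_eq_zero_of_notMem (θ : NU C → ℂ) {x : G} (hx : x ∈ C.H) (h : x ∉ C.U) :
    testN θ x = 0 :=
  testN_eq_zero θ fun ⟨_, hc, hy, _⟩ => h (mem_U_of_isConj hy hc hx)

theorem testN_dlike (θ : NU C → ℂ) {x : G} (h : Dlike (C := C) x) : testN θ x = 0 := by
  refine testN_eq_zero θ fun ⟨y, hc, hy, hn⟩ => hn ?_
  obtain ⟨g, hg⟩ := isConj_iff.1 hc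
  obtain ⟨k, hk, hkc⟩ := exists_conj_H h.mem_U hy hn hg
  exact hkc ▸ h.conj hk

section Theta

variable [Fintype (NU C)] (hM : IsPModular 2 M)

theorem card_NU : Nat.card (NU C) = Nat.card C.U :=
  Nat.card_congr (Subgroup.subgroupOfEquivOfLe C.U_le_H).toEquiv

include hM in
/-- The degree of an irreducible character of `U` is a unit at `2`, and so is `|U| / θ(1)`. -/
theorem theta_unit (θ : IrrCharacter (NU C)) :
    ¬ MemLocalIdeal M ((θ : NU C → ℂ) 1) ∧
      ¬ MemLocalIdeal M ((Nat.card C.U : ℂ) / (θ : NU C → ℂ) 1) ∧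
      MemLocalRing M ((Nat.card C.U : ℂ) / (θ : NU C → ℂ) 1) := by
  classical
  have hU := not_memLocalIdeal_of_odd hM C.odd_U
  have hc : IsIntClass M (fun n : NU C => conj ((θ : NU C → ℂ) n)) :=
    ⟨fun n x => by simp only [isClassFunction_irr θ n x], fun n => by
      show MemLocalRing M (conj ((θ : NU C → ℂ) n))
      rw [conj_irr]; exact irr_mem θ _⟩
  have e : omega (θ : NU C → ℂ) (fun n : NU C => conj ((θ : NU C → ℂ) n)) =
      (Nat.card C.U : ℂ) / (θ : NU C → ℂ) 1 := by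
    rw [omega, ← card_NU]
    congr 1
    have h := classInner_irr θ θ
    rw [if_pos rfl, classInner, inv_mul_eq_iff_eq_mul₀ (Nat.cast_ne_zero.2 Nat.card_pos.ne'),
      mul_one] at h
    rw [← h]
    exact sum_congr rfl fun n _ => mul_comm _ _
  have hr := omega_mem θ hc
  rw [e] at hr
  have hmul : (Nat.card C.U : ℂ) / (θ : NU C → ℂ) 1 * (θ : NU C → ℂ) 1 = Nat.card C.U :=
    div_mul_cancel₀ _ (irr_one_ne_zero θ)
  exact ⟨fun h => hU (hmul ▸ memLocalIdeal_mul_left hr h),
    fun h => hU (hmul ▸ memLocalIdeal_mul_right h (irr_mem θ 1)), hr⟩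

theorem omega_theta (θ : IrrCharacter (NU C)) (a : G → ℂ) :
    omega (θ : NU C → ℂ) (resFun (NU C) (resFun (Ha C) a)) =
      (∑ x ∈ C.Uf, a x * ext0 (θ : NU C → ℂ) x) / (θ : NU C → ℂ) 1 := by
  haveI : Fintype (Ha C) := Fintype.ofFinite _
  rw [omega, ← sum_NU (fun x => a x * ext0 (θ : NU C → ℂ) x)]
  simp only [ext0_coe]
  rfl

theorem ext0_inv (θ : IrrCharacter (NU C)) {x : G} (hx : x ∈ C.U) :
    ext0 (θ : NU C → ℂ) x⁻¹ = conj (ext0 (θ : NU C → ℂ) x) := by
  rw [ext0_of_mem _ hx, ext0_of_mem _ (inv_mem hx), conj_irr]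
  rfl

include hI hM in
/-- A `b`-invariant irreducible character of `U` ignores `U0`. -/
theorem ext0_D_mul (θ : IrrCharacter (NU C))
    (hinv : ∀ x ∈ C.U, ext0 (θ : NU C → ℂ) (C.b * x * C.b) = ext0 (θ : NU C → ℂ) x)
    {d y : G} (hd : d ∈ C.D) (hy : y ∈ C.U0) :
    ext0 (θ : NU C → ℂ) (d * y) = ext0 (θ : NU C → ℂ) d := by
  classical
  let a : NU C → ℂ := fun n => if ((n : Ha C) : G) ∈ C.U0 then 1 else 0
  have ha : IsClassFunction (NU C) a := fun n m => by
    simp only [a]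
    refine if_congr ⟨fun h => ?_, fun h => ?_⟩ rfl rfl
    · have := conj_mem_U0' (m : Ha C).2 h
      simpa [mul_assoc] using this
    · exact conj_mem_U0 (m : Ha C).2 h
  have hS : ∑ n : NU C, a n * (θ : NU C → ℂ) n ≠ 0 := by
    have e : ∑ n : NU C, a n * (θ : NU C → ℂ) n =
        ∑ x ∈ C.Uf.filter (· ∈ C.U0), ext0 (θ : NU C → ℂ) x := by
      haveI : Fintype (Ha C) := Fintype.ofFinite _
      rw [sum_filter, ← sum_NU (fun x => if x ∈ C.U0 then ext0 (θ : NU C → ℂ) x else 0)]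
      refine sum_congr rfl fun n _ => ?_
      simp only [a, ext0_coe, ite_mul, one_mul, zero_mul]
    have hp := pairing hM (C.Uf.filter (· ∈ C.U0)) (ext0 (θ : NU C → ℂ)) (fun x => C.b * x * C.b)
      (fun x hx => by
        rw [mem_filter, mem_Uf] at hx ⊢
        exact ⟨b_conj_mem_U hx.1, by rw [inverted_of_mem_U0 hI hx.2]; exact inv_mem hx.2⟩)
      (fun x _ => b_conj_conj x) (fun x _ => memLocalRing_of_isIntegral (isIntegral_ext0 θ x))
      (fun x hx => hinv x (mem_Uf.1 (mem_filter.1 hx).1))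
    have e1 : (C.Uf.filter (· ∈ C.U0)).filter (fun x => C.b * x * C.b = x) = {1} := by
      ext x
      simp only [mem_filter, mem_Uf, mem_singleton]
      exact ⟨fun h => eq_one_of_mem_U0_D hI h.1.2 (mem_D_of_fixed h.1.1 h.2),
        fun h => by subst h; exact ⟨⟨one_mem _, one_mem _⟩, by rw [mul_one, C.hb.1]⟩⟩
    rw [e1, sum_singleton, ext0_of_mem _ (one_mem C.U), show toNU (one_mem C.U) = 1 from rfl] at hp
    intro h0
    rw [e] at h0
    rw [h0, zero_sub] at hp
    exact (theta_unit hM θ).1 (by simpa using memLocalIdeal_neg hp)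
  have hdy : d * y * d⁻¹ ∈ C.U0 := conj_mem_U0 (C.U_le_H (C.D_le_U hd)) hy
  have h := irr_mul_eq θ ha hS (k := toNU (C.U0_le_U hdy)) (μ := 1) (fun g => by
    rw [one_mul]
    simp only [a]
    refine if_congr ⟨fun h => ?_, fun h => ?_⟩ rfl rfl
    · have := C.U0.mul_mem h hdy
      simpa [mul_assoc] using this
    · exact mul_mem h (inv_mem hdy)) (toNU (C.D_le_U hd))
  rw [one_mul] at h
  rw [ext0_of_mem _ (mul_mem (C.D_le_U hd) (C.U0_le_U hy)), ext0_of_mem _ (C.D_le_U hd), ← h]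
  refine congrArg _ (Subtype.ext (Subtype.ext ?_))
  show d * y = d * y * d⁻¹ * d
  group

variable [Fintype (Ha C)]

include hI hM in
/-- The values on `U` of a member whose block induces the block of a member over `β`. -/
theorem induced_values {χ : IrrCharacter G} {η ξ : IrrCharacter (Ha C)}
    (hη : ∀ x : Ha C, (x : G) ∈ C.U → (η : Ha C → ℂ) x = (η : Ha C → ℂ) 1 * psi hI β x)
    (h₁ : IsInducedBlock M (Ha C) (blockOf M (η : Ha C → ℂ)) (blockOf M (χ : G → ℂ)))
    (h₂ : IsInducedBlock M (Ha C) (blockOf M (ξ : Ha C → ℂ)) (blockOf M (χ : G → ℂ))) :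
    ∃ β' : C.D →* ℂˣ, (β' = β ∨ β' = rot1 β ∨ β' = rot2 β) ∧
      ∀ x : Ha C, (x : G) ∈ C.U → (ξ : Ha C → ℂ) x = (ξ : Ha C → ℂ) 1 * psi hI β' x := by
  classical
  have hcl := IsCharacter.restrict (isCharacter_irr ξ) (NU C)
  obtain ⟨θ₀, hθ₀, hc⟩ := IsCharacter.exists_constituent hcl
    (fun h => irr_one_ne_zero ξ (by simpa using congrFun h 1))
  set θ : IrrCharacter (NU C) := ⟨θ₀, hθ₀⟩
  set T := ext0 (θ : NU C → ℂ) with hTdef
  obtain ⟨hθ1, hq, -⟩ := theta_unit hM θ
  have hθinv : MemLocalRing M ((θ : NU C → ℂ) 1)⁻¹ := memLocalRing_inv (irr_mem θ 1) hθ1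
  -- comparing the two members on a test function
  have key : ∀ a : G → ℂ, IsIntClass M a → (∀ h : Ha C, (h : G) ∉ C.U → a h = 0) →
      MemLocalIdeal M ((∑ x ∈ C.Uf, a x * T x) / (θ : NU C → ℂ) 1 -
        ∑ x ∈ C.Uf, a x * psi hI β x) := by
    intro a ha hsupp
    have hca := isIntClass_resFun (H := Ha C) ha
    rw [← omega_theta θ a, ← omega_eta hI β hη a hsupp,
      ← omega_eq_of_constituent (θ := θ) hc hca.1 (fun g hg => hsupp g hg)]
    exact omega_res_cong h₂ h₁ ha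
  by_cases hinv : ∀ x ∈ C.U, T (C.b * x * C.b) = T x
  · -- the invariant case
    have hsum := key (testD hI β)
      ⟨isClassFunction_testD hI β, fun x => memLocalRing_of_isIntegral (isIntegral_testD hI β x)⟩
      (fun h hh => testD_eq_zero_of_notMem hI β h.2 hh)
    have h1 := sum_Uf_cong hM (fun x => testD hI β x * T x)
      (fun x _ => memLocalRing_of_isIntegral ((isIntegral_testD hI β x).mul (isIntegral_ext0 θ x)))
      (fun x hx => by rw [testD_bxb hI β, hinv x hx])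
    have h2 := sum_Uf_cong hM (fun x => testD hI β x * psi hI β x)
      (fun x hx => memLocalRing_of_isIntegral
        ((isIntegral_testD hI β x).mul (isIntegral_psi hI β hx)))
      (fun x hx => by rw [testD_bxb hI β, psi_bxb hI β hx])
    have eD : ∀ (g : G → ℂ), ∑ d ∈ univ.filter (· ∈ C.D), testD hI β d * g d =
        ∑ d ∈ univ.filter (· ∈ C.D), orbSum hI β d * g d := fun g =>
      sum_congr rfl fun d hd => by rw [testD_of_D hI β (mem_filter.1 hd).2 (IsConj.refl d)]
    rw [eD] at h1 h2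
    obtain ⟨k, hk, ek⟩ := sum_D_orbSum hI β
    rw [ek] at h2
    have hne : ∑ d ∈ univ.filter (· ∈ C.D), orbSum hI β d * T d ≠ 0 := by
      intro h0
      rw [h0, sub_zero] at h1
      have h3 := memLocalIdeal_sub (memLocalIdeal_mul_right h1 hθinv) hsum
      rw [← div_eq_mul_inv, sub_sub_cancel] at h3
      rw [memLocalIdeal_iff_of_cong h2, ← Nat.cast_mul] at h3
      exact not_memLocalIdeal_of_odd hM (hk.mul C.odd_D) h3
    obtain ⟨β', hβ', hne'⟩ : ∃ β' : C.D →* ℂˣ, (β' = β ∨ β' = rot1 β ∨ β' = rot2 β) ∧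
        ∑ d ∈ univ.filter (· ∈ C.D), psi hI β' d⁻¹ * T d ≠ 0 := by
      by_contra hall
      push Not at hall
      refine hne ?_
      simp only [orbSum, add_mul, sum_add_distrib, hall β (Or.inl rfl),
        hall _ (Or.inr (Or.inl rfl)), hall _ (Or.inr (Or.inr rfl)), add_zero]
    refine ⟨β', hβ', ?_⟩
    let e : Ha C → ℂ := fun h => if (h : G) ∈ C.U then psi hI β' (h : G)⁻¹ else 0
    have he : IsClassFunction (Ha C) e := fun h g => by
      simp only [e]
      by_cases hh : (h : G) ∈ C.U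
      · have hh' : ((g * h * g⁻¹ : Ha C) : G) ∈ C.U := conj_mem (C.H_le_normalizer_U g.2) hh
        rw [if_pos hh, if_pos hh']
        push_cast
        rw [show ((g : G) * h * (g : G)⁻¹)⁻¹ = (g : G) * (h : G)⁻¹ * (g : G)⁻¹ by group,
          psi_conj hI β' g.2 (inv_mem hh)]
      · rw [if_neg hh, if_neg fun hh' => hh ?_]
        have := CfsgLib.DGroup.conj_mem' (C.H_le_normalizer_U g.2) hh'
        simpa [mul_assoc] using this
    -- the constituent is a multiple of the linear character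
    have heN : IsClassFunction (NU C) (fun n : NU C => e (n : Ha C)) := fun n m => he _ _
    have hSθ : ∑ n : NU C, e (n : Ha C) * (θ : NU C → ℂ) n ≠ 0 := by
      have e1 : ∑ n : NU C, e (n : Ha C) * (θ : NU C → ℂ) n =
          ∑ x ∈ C.Uf, psi hI β' x⁻¹ * T x := by
        rw [← sum_NU (fun x => psi hI β' x⁻¹ * T x)]
        exact sum_congr rfl fun n _ => by rw [hTdef, ext0_coe]; exact congrArg (· * _) (if_pos n.2)
      rw [e1]
      have hcong := sum_Uf_cong hM (fun x => psi hI β' x⁻¹ * T x)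
        (fun x hx => memLocalRing_of_isIntegral
          ((isIntegral_psi hI β' (inv_mem hx)).mul (isIntegral_ext0 θ x)))
        (fun x hx => by rw [← invol_inv C.hb.1, psi_bxb hI β' (inv_mem hx), hinv x hx])
      have hfull : ∑ x ∈ C.Uf, psi hI β' x⁻¹ * T x =
          (Nat.card C.U0 : ℂ) * ∑ d ∈ univ.filter (· ∈ C.D), psi hI β' d⁻¹ * T d := by
        rw [Nat.card_eq_fintype_card, Fintype.card_subtype, mul_sum,
          sum_congr rfl (fun d _ => show ((univ.filter (· ∈ C.U0)).card : ℂ) *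
            (psi hI β' d⁻¹ * T d) = ∑ _y ∈ univ.filter (· ∈ C.U0), psi hI β' d⁻¹ * T d by
              rw [sum_const, nsmul_eq_mul]), ← sum_product']
        refine (sum_bij (fun p _ => p.1 * p.2) (fun p hp => ?_) (fun p hp p' hp' h => ?_)
          (fun x hx => ?_) fun p hp => ?_).symm
        · simp only [mem_product, mem_filter, mem_univ, true_and] at hp
          exact mem_Uf.2 (mul_mem (C.D_le_U hp.1) (C.U0_le_U hp.2))
        · simp only [mem_product, mem_filter, mem_univ, true_and] at hp hp'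
          obtain ⟨h1, h2⟩ := decomp_unique hI hp.1 hp'.1 hp.2 hp'.2 h
          exact Prod.ext h1 h2
        · obtain ⟨d, hd, y, hy, rfl⟩ := C.exists_mul_U0 (mem_Uf.1 hx)
          exact ⟨(d, y), by simp [hd, hy], rfl⟩
        · simp only [mem_product, mem_filter, mem_univ, true_and] at hp
          rw [hTdef, ext0_D_mul hI hM θ hinv hp.1 hp.2, mul_inv_rev,
            psi_mul hI β' (inv_mem (C.U0_le_U hp.2)) (inv_mem (C.D_le_U hp.1)),
            psi_U0 hI β' (inv_mem hp.2), one_mul]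
      rw [hfull]
      exact mul_ne_zero (Nat.cast_ne_zero.2 Nat.card_pos.ne') hne'
    have hlam : ∀ (g : Ha C) (x : Ha C), (x : G) ∈ C.U →
        e (g * x⁻¹) = psi hI β' x * e g := by
      intro g x hx
      simp only [e]
      by_cases hg : (g : G) ∈ C.U
      · rw [if_pos hg, if_pos (show ((g * x⁻¹ : Ha C) : G) ∈ C.U from mul_mem hg (inv_mem hx)),
          ← psi_mul hI β' hx (inv_mem hg)]
        congr 1
        push_cast
        group
      · rw [if_neg hg, if_neg, mul_zero]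
        intro h
        refine hg ?_
        have := mul_mem (show (g : G) * (x : G)⁻¹ ∈ C.U from h) hx
        rwa [inv_mul_cancel_right] at this
    have hθval : ∀ n : NU C, (θ : NU C → ℂ) n =
        psi hI β' ((n : Ha C) : G) * (θ : NU C → ℂ) 1 := fun n => by
      have := irr_mul_eq θ heN hSθ (k := n) (μ := psi hI β' ((n : Ha C) : G))
        (fun g => hlam (g : Ha C) (n : Ha C) n.2) 1
      rwa [mul_one] at this
    have hSξ : ∑ h : Ha C, e h * (ξ : Ha C → ℂ) h ≠ 0 := by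
      intro h0
      rw [sum_eq_sum_subgroup (NU C) _ fun h hh => by
        simp only [e]; rw [if_neg (show (h : G) ∉ C.U from hh), zero_mul]] at h0
      refine hc ?_
      have e2 : ∑ n : NU C, (ξ : Ha C → ℂ) (n : Ha C) * conj (θ₀ n) =
          (θ : NU C → ℂ) 1 * ∑ n : NU C, e (n : Ha C) * (ξ : Ha C → ℂ) (n : Ha C) := by
        rw [mul_sum]
        refine sum_congr rfl fun n _ => ?_
        rw [show conj (θ₀ n) = conj ((θ : NU C → ℂ) n) from rfl, conj_irr, hθval n⁻¹,
          show e (n : Ha C) = psi hI β' ((n : Ha C) : G)⁻¹ from if_pos n.2]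
        push_cast
        ring
      rw [classInner, e2, h0, mul_zero, mul_zero]
    intro x hx
    have := irr_mul_eq ξ he hSξ (k := x) (μ := psi hI β' x) (fun g => hlam g x hx) 1
    rw [mul_one] at this
    rw [this, mul_comm]
  · -- the moved case
    exfalso
    have hsum := key (testN (θ : NU C → ℂ))
      ⟨isClassFunction_testN θ, fun x => memLocalRing_of_isIntegral (isIntegral_testN θ x)⟩
      (fun h hh => testN_eq_zero_of_notMem _ h.2 hh)
    set P := C.Uf.filter (fun x => ¬ Dlike (C := C) x) with hP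
    set Q := C.Uf.filter (fun x => Dlike (C := C) x) with hQ
    have hsplit : ∀ g : G → ℂ, ∑ x ∈ C.Uf, testN (θ : NU C → ℂ) x * g x =
        ∑ x ∈ P, pairSum (θ : NU C → ℂ) x * g x := fun g => by
      rw [hP, sum_filter]
      refine sum_congr rfl fun x hx => ?_
      by_cases h : Dlike (C := C) x
      · rw [if_neg (not_not.2 h), testN_dlike _ h, zero_mul]
      · rw [if_pos h, testN_of_nondlike θ (mem_Uf.1 hx) h (IsConj.refl x)]
    rw [hsplit, hsplit] at hsum
    -- the free pairing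
    have hfree : MemLocalIdeal M (∑ x ∈ P, pairSum (θ : NU C → ℂ) x * psi hI β x) := by
      refine pairing_free hM P _ (fun x => C.b * x * C.b) (fun x hx => ?_) (fun x _ => b_conj_conj x)
        (fun x hx he => ?_) (fun x hx => memLocalRing_of_isIntegral
          ((isIntegral_pairSum θ x).mul (isIntegral_psi hI β (mem_Uf.1 (mem_filter.1 hx).1))))
        fun x hx => ?_
      · obtain ⟨h1, h2⟩ := mem_filter.1 hx
        refine mem_filter.2 ⟨mem_Uf.2 (b_conj_mem_U (mem_Uf.1 h1)), fun h => h2 ?_⟩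
        have := h.bxb; rwa [b_conj_conj] at this
      · obtain ⟨h1, h2⟩ := mem_filter.1 hx
        exact h2 (dlike_of_mem (mem_D_of_fixed (mem_Uf.1 h1) he))
      · have h1 := mem_Uf.1 (mem_filter.1 hx).1
        rw [psi_bxb hI β h1, ← conj_invol_eq C.hb.1, pairSum_conj θ C.b_mem_H h1]
    -- the self product
    have hb : C.b ∈ Ha C := C.b_mem_H
    have hne : conjIrr (⟨C.b, hb⟩ : Ha C) θ ≠ θ := by
      intro he
      refine hinv fun x hx => ?_
      rw [hTdef, ext0_of_mem _ hx, ext0_of_mem _ (b_conj_mem_U hx)]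
      conv_rhs => rw [← he, conjIrr_coe, conjOn_apply]
      exact congrArg _ (Subtype.ext (Subtype.ext (conj_invol_eq C.hb.1 x).symm))
    have horth : ∑ x ∈ C.Uf, T x * T (C.b * x⁻¹ * C.b) = 0 := by
      have h := classInner_irr θ (conjIrr (⟨C.b, hb⟩ : Ha C) θ)
      rw [if_neg (Ne.symm hne), classInner, mul_eq_zero, inv_eq_zero] at h
      rw [← h.resolve_left (Nat.cast_ne_zero.2 Nat.card_pos.ne'),
        ← sum_NU (fun x => T x * T (C.b * x⁻¹ * C.b))]
      refine sum_congr rfl fun n _ => ?_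
      rw [hTdef, ext0_coe, conj_irr, ext0_of_mem _ (b_conj_mem_U (inv_mem (NU_mem n))), conjIrr_coe,
        conjOn_apply]
      exact congrArg (_ * ·) (congrArg _ (Subtype.ext (Subtype.ext (conj_invol_eq C.hb.1 _).symm)))
    have hself : ∑ x ∈ C.Uf, T x * T x⁻¹ = Nat.card C.U := by
      have h := classInner_irr θ θ
      rw [if_pos rfl, classInner, inv_mul_eq_iff_eq_mul₀ (Nat.cast_ne_zero.2 Nat.card_pos.ne'),
        mul_one] at h
      rw [← card_NU, ← h, ← sum_NU (fun x => T x * T x⁻¹)]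
      refine sum_congr rfl fun n _ => ?_
      rw [hTdef, ext0_coe, conj_irr, ext0_of_mem _ (inv_mem (NU_mem n))]
      rfl
    let g : NU C → ℂ := fun n =>
      if Dlike (C := C) ((n : Ha C) : G) then conj ((θ : NU C → ℂ) n) else 0
    have hg : IsIntClass M g := by
      refine ⟨fun n m => ?_, fun n => ?_⟩
      · simp only [g]
        refine if_congr ⟨fun h => ?_, fun h => ?_⟩ (by rw [isClassFunction_irr θ n m]) rfl
        · have := h.conj (C.H.inv_mem (m : Ha C).2)
          simpa [mul_assoc] using this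
        · exact h.conj (m : Ha C).2
      · simp only [g]
        split_ifs
        · rw [conj_irr]; exact irr_mem θ _
        · exact memLocalRing_zero
    have hQsum : ∑ x ∈ Q, T x⁻¹ * T x = omega (θ : NU C → ℂ) g * (θ : NU C → ℂ) 1 := by
      rw [omega, div_mul_cancel₀ _ (irr_one_ne_zero θ), hQ, sum_filter,
        ← sum_NU (fun x => if Dlike (C := C) x then T x⁻¹ * T x else 0)]
      refine sum_congr rfl fun n _ => ?_
      simp only [g, ite_mul, zero_mul, hTdef, ext0_coe, conj_irr]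
      rw [ext0_of_mem _ (inv_mem (NU_mem n))]
      rfl
    have hPval : ∑ x ∈ P, pairSum (θ : NU C → ℂ) x * T x =
        Nat.card C.U - 2 * (omega (θ : NU C → ℂ) g * (θ : NU C → ℂ) 1) := by
      have e1 : ∑ x ∈ C.Uf, pairSum (θ : NU C → ℂ) x * T x = Nat.card C.U := by
        rw [← hself, ← add_zero (∑ x ∈ C.Uf, T x * T x⁻¹), ← horth, ← sum_add_distrib]
        exact sum_congr rfl fun x _ => by rw [pairSum, hTdef]; ring
      have e2 : ∑ x ∈ Q, pairSum (θ : NU C → ℂ) x * T x = 2 * ∑ x ∈ Q, T x⁻¹ * T x := by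
        rw [mul_sum]
        refine sum_congr rfl fun x hx => ?_
        obtain ⟨u, hu, d, hd, rfl⟩ := (mem_filter.1 hx).2
        have hd' := C.D_le_U (inv_mem hd)
        have e3 : C.b * (u * d * u⁻¹)⁻¹ * C.b =
            (C.b * u * C.b) * d⁻¹ * (C.b * u * C.b)⁻¹ := by
          rw [show (u * d * u⁻¹)⁻¹ = u * d⁻¹ * u⁻¹ by group, invol_mul C.hb.1, invol_mul C.hb.1,
            conj_eq_of_commute C.hb.1 (C.mem_D.1 hd).2.inv_left, invol_inv C.hb.1]
        rw [pairSum, e3, show (u * d * u⁻¹)⁻¹ = u * d⁻¹ * u⁻¹ by group, hTdef,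
          ext0_conj_U θ (b_conj_mem_U hu) hd', ext0_conj_U θ hu hd']
        ring
      rw [← e1, ← hQsum, ← e2, hP, hQ, ← sum_filter_add_sum_filter_not C.Uf
        (fun x => Dlike (C := C) x) (fun x => pairSum (θ : NU C → ℂ) x * T x)]
      ring
    rw [hPval] at hsum
    have h3 := memLocalIdeal_add hsum hfree
    rw [sub_add_cancel, sub_div, mul_div_assoc, mul_div_cancel_right₀ _ (irr_one_ne_zero θ)] at h3
    have h4 := memLocalIdeal_add h3
      (memLocalIdeal_mul_right (memLocalIdeal_p hM) (omega_mem θ hg))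
    rw [Nat.cast_ofNat, sub_add_cancel] at h4
    exact hq h4

end Theta

end CfsgLib.GW.CaseI.Ctx
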