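import Cfsg.Agent.GW.Linear.Values

/-!
# Gorenstein–Walter, linear characters: products of two involutions in `a U`

Such products are local, so the class sum gives the weighted sum over the supporting characters.
-/

set_option autoImplicit false
set_option linter.style.haveILetI false
set_option linter.unusedSectionVars false

namespace CfsgLib.GW.CaseI.Ctx

open Cfsg Finset CfsgLib.Block CfsgLib.Block.Chr CfsgLib.Char CfsgLib.GW.Linear
open CfsgLib.NormCyclic (Inv)
open scoped ComplexConjugate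
open CfsgLib.DGroup (conj_mem odd_orderOf eq_one_of_sq not_inv_of_odd)

universe u

variable {G : Type u} [Group G] [Fintype G] {C : Ctx G}

theorem inverted_of_prod [DecidableEq G] {v y x : G} (hv : v = C.b ∨ v = C.c) (hy : y ∈ C.U) (hx : x ∈ C.U) :
    y * v * (C.a * x) =
      y * (C.b * x * C.b) * (if v = C.b then C.c else C.b) := by
  classical
  have hbc : C.b ≠ C.c := fun h => C.ha.2 (mul_eq_right.1 h.symm)
  have hax := (C.commute_a hx).eq
  rcases hv with rfl | rfl
  · rw [if_pos rfl]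
    calc y * C.b * (C.a * x) = y * C.b * (x * C.a) := by rw [hax]
      _ = y * (C.b * x * C.b) * (C.b * C.a) := by
        rw [show y * (C.b * x * C.b) * (C.b * C.a) = y * C.b * x * (C.b * C.b) * C.a by group,
          C.hb.1]
        group
      _ = _ := by rw [show C.b * C.a = C.c from C.hab.eq.symm]
  · rw [if_neg (Ne.symm hbc)]
    calc y * C.c * (C.a * x) = y * C.c * (x * C.a) := by rw [hax]
      _ = y * (C.c * x * C.c) * (C.c * C.a) := by
        rw [show y * (C.c * x * C.c) * (C.c * C.a) = y * C.c * x * (C.c * C.c) * C.a by group,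
          C.hc.1]
        group
      _ = _ := by
        rw [C.conj_c hx, show C.c * C.a = C.b by
          rw [c, mul_assoc, show C.b * C.a = C.c from C.hab.eq.symm, c, ← mul_assoc, C.ha.1, one_mul]]

/-- `y v` is an involution exactly for `y` inverted. -/
theorem inv_mul_iff (hI : C.InvComm) {v y : G} (hv : v = C.b ∨ v = C.c) (hy : y ∈ C.U) :
    Inv (y * v) ↔ y ∈ C.U0 := by
  have hvv : v * v = 1 := by rcases hv with rfl | rfl <;> [exact C.hb.1; exact C.hc.1]
  have hconj : v * y * v = C.b * y * C.b := by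
    rcases hv with rfl | rfl
    · rfl
    · exact C.conj_c hy
  have hvV : v ∈ C.V := by rcases hv with rfl | rfl <;> [exact C.b_mem_V; exact C.c_mem_V]
  have hv1 : v ≠ 1 := by rcases hv with rfl | rfl <;> [exact C.hb.2; exact C.hc.2]
  have e : y * v * (y * v) = y * (C.b * y * C.b) := by rw [← hconj]; group
  constructor
  · intro h
    exact mem_invGen hy (eq_inv_of_mul_eq_one_right (e ▸ h.1))
  · intro h
    refine ⟨by rw [e, inverted_of_mem_U0 hI h, mul_inv_cancel], fun h1 => hv1 ?_⟩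
    have := eq_one_of_mem_U_V (C := C) hy (by
      rw [eq_inv_of_mul_eq_one_left h1]; exact inv_mem hvV)
    rwa [this, one_mul] at h1

/-- The involutions `u` with `u a x` an involution. -/
theorem pair_iff (hI : C.InvComm) {x u : G} (hx : x ∈ C.U) :
    Inv u ∧ Inv (u * (C.a * x)) ↔
      x ∈ C.U0 ∧ ∃ y ∈ C.U0, u = y * C.b ∨ u = y * C.c := by
  classical
  constructor
  · rintro ⟨hu, hw⟩
    have hua : Commute u C.a := by
      have hinv : u * (C.a * x) * u⁻¹ = (C.a * x)⁻¹ := by
        refine eq_inv_of_mul_eq_one_left ?_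
        rw [hu.inv_eq, show u * (C.a * x) * u * (C.a * x) = u * (C.a * x) * (u * (C.a * x)) by group]
        exact hw.1
      have h := (congrArg (fun z => z ^ orderOf x) hinv)
      simp only [conj_pow, inv_pow] at h
      have e : (C.a * x) ^ orderOf x = C.a := by
        rw [(C.commute_a hx).symm.mul_pow, pow_orderOf_eq_one, mul_one]
        obtain ⟨k, hk⟩ := odd_orderOf C.odd_U hx
        rw [hk, pow_add, pow_mul, sq, C.ha.1, one_pow, pow_one, one_mul]
      rw [e, C.ha.inv_eq] at h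
      exact mul_inv_eq_iff_eq_mul.1 h
    have huH : u ∈ C.H := C.mem_H.2 hua
    have hne : u ≠ C.a := by
      rintro rfl
      rw [← mul_assoc, C.ha.1, one_mul] at hw
      exact not_inv_of_odd (odd_orderOf C.odd_U hx) hw
    obtain ⟨w, hw', v, hv, rfl⟩ : ∃ w ∈ C.U, ∃ v, (v = C.b ∨ v = C.c) ∧ u = w * v := by
      obtain ⟨w, hwU, v, hv, rfl⟩ := C.exists_mul_V huH
      refine ⟨w, hwU, v, ?_, rfl⟩
      rcases C.mem_V.1 hv with rfl | rfl | h | h
      · exact absurd hu (by rw [mul_one]; exact not_inv_of_odd (odd_orderOf C.odd_U hwU))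
      · refine absurd ?_ hne
        have h2 : w * w = 1 := by
          have := hu.1
          rwa [(C.commute_a hwU).symm.mul_mul_mul_comm w C.a, C.ha.1, mul_one] at this
        rw [eq_one_of_sq h2 (odd_orderOf C.odd_U hwU), one_mul]
      · exact Or.inl h
      · exact Or.inr h
    have hwU0 := (inv_mul_iff hI hv hw').1 hu
    rw [inverted_of_prod hv hw' hx] at hw
    have hbx := b_conj_mem_U (C := C) hx
    have h0 : w * (C.b * x * C.b) ∈ C.U0 := (inv_mul_iff hI (by
      by_cases h : v = C.b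
      · rw [if_pos h]; exact Or.inr rfl
      · rw [if_neg h]; exact Or.inl rfl) (mul_mem hw' hbx)).1 hw
    have h1 := mul_mem (inv_mem hwU0) h0
    rw [inv_mul_cancel_left] at h1
    have h2 := inverted_of_mem_U0 hI h1
    rw [b_conj_conj] at h2
    refine ⟨by rw [h2]; exact inv_mem h1, w, hwU0, ?_⟩
    rcases hv with rfl | rfl
    · exact Or.inl rfl
    · exact Or.inr rfl
  · rintro ⟨hx0, y, hy, h⟩
    obtain ⟨v, hv, rfl⟩ : ∃ v, (v = C.b ∨ v = C.c) ∧ u = y * v := by
      rcases h with rfl | rfl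
      · exact ⟨_, Or.inl rfl, rfl⟩
      · exact ⟨_, Or.inr rfl, rfl⟩
    refine ⟨(inv_mul_iff hI hv (C.U0_le_U hy)).2 hy, ?_⟩
    rw [inverted_of_prod hv (C.U0_le_U hy) hx]
    refine (inv_mul_iff hI ?_ (mul_mem (C.U0_le_U hy) (b_conj_mem_U hx))).2
      (mul_mem hy (by rw [inverted_of_mem_U0 hI hx0]; exact inv_mem hx0))
    by_cases h : v = C.b
    · rw [if_pos h]; exact Or.inr rfl
    · rw [if_neg h]; exact Or.inl rfl

theorem classInd_a (g : G) [Decidable (Inv g)] : classInd C.a g = if Inv g then (1 : ℂ) else 0 := by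
  classical
  by_cases h : Inv g
  · rw [if_pos h, classInd_of_isConj]
    exact isConj_iff.2 (C.exists_conj_a h)
  · rw [if_neg h, classInd_of_not_isConj]
    intro hc
    obtain ⟨k, rfl⟩ := isConj_iff.1 hc
    exact h (C.ha.conj k)

theorem conv_classInd (hI : C.InvComm) {x : G} (hx : x ∈ C.U) [Decidable (x ∈ C.U0)] :
    conv (classInd C.a) (classInd C.a) (C.a * x) =
      if x ∈ C.U0 then 2 * (Nat.card C.U0 : ℂ) else 0 := by
  classical
  rw [conv]
  have e : ∀ u : G, classInd C.a u * classInd C.a (u⁻¹ * (C.a * x)) =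
      if Inv u ∧ Inv (u * (C.a * x)) then (1 : ℂ) else 0 := by
    intro u
    rw [classInd_a, classInd_a]
    by_cases hu : Inv u
    · rw [if_pos hu, one_mul, hu.inv_eq]; simp only [hu, true_and]
    · rw [if_neg hu, zero_mul, if_neg fun h => hu h.1]
  rw [sum_congr rfl fun u _ => e u, sum_boole]
  simp only [pair_iff hI hx]
  split_ifs with h
  · have hbc : C.b ≠ C.c := fun h => C.ha.2 (mul_eq_right.1 h.symm)
    simp only [h, true_and]
    have hset : (univ.filter fun u => ∃ y ∈ C.U0, u = y * C.b ∨ u = y * C.c) =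
        (univ.filter (· ∈ C.U0)).image (fun y => y * C.b) ∪
          (univ.filter (· ∈ C.U0)).image (fun y => y * C.c) := by
      ext u
      simp only [mem_filter, mem_univ, true_and, mem_union, mem_image]
      constructor
      · rintro ⟨y, hy, h | h⟩
        exacts [Or.inl ⟨y, hy, h.symm⟩, Or.inr ⟨y, hy, h.symm⟩]
      · rintro (⟨y, hy, h⟩ | ⟨y, hy, h⟩)
        exacts [⟨y, hy, Or.inl h.symm⟩, ⟨y, hy, Or.inr h.symm⟩]
    rw [hset, card_union_of_disjoint, card_image_of_injective _ (mul_left_injective _),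
      card_image_of_injective _ (mul_left_injective _), Nat.card_eq_fintype_card, Fintype.card_subtype]
    · push_cast; ring
    · rw [disjoint_left]
      simp only [mem_image, mem_filter, mem_univ, true_and, not_exists, not_and]
      rintro _ ⟨y, hy, rfl⟩ y' hy' e
      exact hbc ((decompV_unique (C.U0_le_U hy) (C.U0_le_U hy') C.b_mem_V C.c_mem_V e.symm).2)
  · simp [h]

/-- The class-sum identity projected to the extension of `β`. -/
theorem pairs_identity (hI : C.InvComm) (β : C.D →* ℂˣ) [Fintype (IrrCharacter G)] :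
    (C.H.index : ℂ) *
      ∑ χ : IrrCharacter G, coef hI β (χ : G → ℂ) * (χ : G → ℂ) C.a ^ 2 / (χ : G → ℂ) 1 =
        8 * (Nat.card C.U0 : ℂ) ^ 2 := by
  classical
  have hK := isClassFunction_classInd (G := G) C.a
  have hG0 : (Nat.card G : ℂ) ≠ 0 := Nat.cast_ne_zero.2 Nat.card_pos.ne'
  have hexp : ∀ x : G, conv (classInd C.a) (classInd C.a) (C.a * x) = (Nat.card G : ℂ)⁻¹ *
      ((C.H.index : ℂ) ^ 2 * ∑ χ : IrrCharacter G,
        (χ : G → ℂ) C.a ^ 2 / (χ : G → ℂ) 1 * conj ((χ : G → ℂ) (C.a * x))) := by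
    intro x
    rw [eq_sum_omega (isClassFunction_conv hK hK), mul_sum (a := (C.H.index : ℂ) ^ 2)]
    congr 1
    refine sum_congr rfl fun χ _ => ?_
    rw [omega_conv χ hK, omega_classInd, centralChar]
    have := irr_one_ne_zero χ
    show (χ : G → ℂ) 1 * ((C.H.index : ℂ) * _ / _ * ((C.H.index : ℂ) * _ / _)) * _ = _
    field_simp
  have hcoef : ∀ χ : IrrCharacter G,
      ∑ x ∈ C.Uf, conj ((χ : G → ℂ) (C.a * x)) * psi hI β x =
        (Nat.card C.U : ℂ) * coef hI β (χ : G → ℂ) := by
    intro χ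
    obtain ⟨z, -, hz, -, -⟩ := exists_int hI β χ
    have h1 : conj ((Nat.card C.U : ℂ) * coef hI β (χ : G → ℂ)) =
        (Nat.card C.U : ℂ) * coef hI β (χ : G → ℂ) := by
      rw [hz, map_mul, map_natCast, map_intCast]
    rw [← h1, coef, mul_inv_cancel_left₀ card_U_ne_zero, map_sum]
    refine sum_congr rfl fun x hx => ?_
    rw [map_mul, psi_eq_conj hI β (inv_mem (mem_Uf.1 hx)), inv_inv]
  have h := sum_congr (s₁ := C.Uf) rfl fun x (_ : x ∈ C.Uf) =>
    congrArg (· * psi hI β x) (hexp x)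
  have hl : ∑ x ∈ C.Uf, conv (classInd C.a) (classInd C.a) (C.a * x) * psi hI β x =
      2 * (Nat.card C.U0 : ℂ) * Nat.card C.U0 := by
    rw [sum_congr rfl fun x hx => show conv (classInd C.a) (classInd C.a) (C.a * x) * psi hI β x =
      if x ∈ C.U0 then 2 * (Nat.card C.U0 : ℂ) else 0 by
        rw [conv_classInd hI (mem_Uf.1 hx)]
        split_ifs with h
        · rw [psi_U0 hI β h, mul_one]
        · rw [zero_mul], ← sum_filter, sum_const, nsmul_eq_mul,
      show C.Uf.filter (· ∈ C.U0) = univ.filter (· ∈ C.U0) by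
        ext x
        simp only [mem_filter, mem_Uf, mem_univ, true_and]
        exact ⟨fun h => h.2, fun h => ⟨C.U0_le_U h, h⟩⟩,
      Nat.card_eq_fintype_card, Fintype.card_subtype]
    ring
  rw [hl] at h
  simp only [mul_sum, sum_mul] at h
  rw [sum_comm] at h
  have hr : ∀ χ : IrrCharacter G, ∑ x ∈ C.Uf, (Nat.card G : ℂ)⁻¹ *
      ((C.H.index : ℂ) ^ 2 * ((χ : G → ℂ) C.a ^ 2 / (χ : G → ℂ) 1 *
        conj ((χ : G → ℂ) (C.a * x)))) * psi hI β x =
      (Nat.card G : ℂ)⁻¹ * (C.H.index : ℂ) ^ 2 * (Nat.card C.U : ℂ) *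
        (coef hI β (χ : G → ℂ) * (χ : G → ℂ) C.a ^ 2 / (χ : G → ℂ) 1) := by
    intro χ
    rw [sum_congr rfl fun x _ => show (Nat.card G : ℂ)⁻¹ *
      ((C.H.index : ℂ) ^ 2 * ((χ : G → ℂ) C.a ^ 2 / (χ : G → ℂ) 1 *
        conj ((χ : G → ℂ) (C.a * x)))) * psi hI β x =
      (Nat.card G : ℂ)⁻¹ * (C.H.index : ℂ) ^ 2 * ((χ : G → ℂ) C.a ^ 2 / (χ : G → ℂ) 1) *
        (conj ((χ : G → ℂ) (C.a * x)) * psi hI β x) by ring, ← mul_sum, hcoef χ]
    ring
  rw [sum_congr rfl fun χ _ => hr χ, ← mul_sum] at h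
  have hGeq : (Nat.card G : ℂ) = (C.H.index : ℂ) * (4 * (Nat.card C.U : ℂ)) := by
    rw [← C.H.index_mul_card, card_cent_a]; push_cast; ring
  have hi : (C.H.index : ℂ) ≠ 0 := Nat.cast_ne_zero.2 Subgroup.index_ne_zero_of_finite
  have hU := card_U_ne_zero (C := C)
  rw [hGeq] at h
  field_simp at h
  linear_combination -h

end CfsgLib.GW.CaseI.Ctx
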