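import Cfsg.Agent.GW.Linear.Coeff

/-!
# Gorenstein–Walter, linear characters: the values of the supporting characters
-/

set_option autoImplicit false
set_option linter.style.haveILetI false
set_option linter.unusedSectionVars false

namespace CfsgLib.GW.CaseI.Ctx

open Cfsg Finset CfsgLib.Block CfsgLib.Block.Chr CfsgLib.Char CfsgLib.GW.Linear
open scoped ComplexConjugate
open CfsgLib.DGroup (conj_mem odd_orderOf eq_one_of_sq)

universe u

variable {G : Type u} [Group G] [Fintype G] {C : Ctx G} (hI : C.InvComm) (β : C.D →* ℂˣ)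

/-- An irreducible character of `C(a)` not orthogonal on `U` to a linear extension restricts to a
multiple of it. -/
theorem eq_psi_of_sum_ne_zero [Fintype (Ha C)] (ξ : IrrCharacter (Ha C)) (Ξ : G → ℂ)
    (hΞ : ∀ h : Ha C, (h : G) ∈ C.U → Ξ h = (ξ : Ha C → ℂ) h)
    (hS : ∑ x ∈ C.Uf, psi hI β x⁻¹ * Ξ x ≠ 0) :
    ∀ x : Ha C, (x : G) ∈ C.U → (ξ : Ha C → ℂ) x = (ξ : Ha C → ℂ) 1 * psi hI β x := by
  classical
  let e : Ha C → ℂ := fun h => if (h : G) ∈ C.U then psi hI β (h : G)⁻¹ else 0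
  have he : IsClassFunction (Ha C) e := fun h g => by
    simp only [e]
    by_cases hh : (h : G) ∈ C.U
    · have hh' : ((g * h * g⁻¹ : Ha C) : G) ∈ C.U := conj_mem (C.H_le_normalizer_U g.2) hh
      rw [if_pos hh, if_pos hh']
      push_cast
      rw [show ((g : G) * h * (g : G)⁻¹)⁻¹ = (g : G) * (h : G)⁻¹ * (g : G)⁻¹ by group,
        psi_conj hI β g.2 (inv_mem hh)]
    · rw [if_neg hh, if_neg fun hh' => hh ?_]
      have := CfsgLib.DGroup.conj_mem' (C.H_le_normalizer_U g.2) hh'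
      simpa [mul_assoc] using this
  have hSξ : ∑ h : Ha C, e h * (ξ : Ha C → ℂ) h ≠ 0 := by
    rw [sum_congr rfl fun (h : Ha C) _ => show e h * (ξ : Ha C → ℂ) h =
      (fun g : G => if g ∈ C.U then psi hI β g⁻¹ * Ξ g else 0) h by
        simp only [e]
        split_ifs with hh
        · rw [hΞ h hh]
        · rw [zero_mul],
      sum_Ha (fun g : G => if g ∈ C.U then psi hI β g⁻¹ * Ξ g else 0) (fun h hh => if_neg hh),
      sum_congr rfl fun x hx => if_pos (mem_Uf.1 hx)]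
    exact hS
  intro x hx
  have h := irr_mul_eq ξ he hSξ (k := x) (μ := psi hI β x) (fun g => by
    simp only [e]
    by_cases hg : (g : G) ∈ C.U
    · rw [if_pos hg, if_pos (show ((g * x⁻¹ : Ha C) : G) ∈ C.U from mul_mem hg (inv_mem hx)),
        ← psi_mul hI β hx (inv_mem hg)]
      congr 1
      push_cast
      group
    · rw [if_neg hg, if_neg, mul_zero]
      intro h
      refine hg ?_
      have := mul_mem (show (g : G) * (x : G)⁻¹ ∈ C.U from h) hx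
      rwa [inv_mul_cancel_right] at this) 1
  rw [mul_one] at h
  rw [h, mul_comm]

/-- A character with nonzero coefficient is a combination of the rotations on `a U`. -/
theorem exists_values (χ : IrrCharacter G) (hc : coef hI β (χ : G → ℂ) ≠ 0) :
    ∃ k₀ k₁ k₂ : ℂ, ∀ x ∈ C.U, (χ : G → ℂ) (C.a * x) =
      k₀ * psi hI β x + k₁ * psi hI (rot1 β) x + k₂ * psi hI (rot2 β) x := by
  classical
  obtain ⟨M, hM⟩ := exists_isPModular Nat.prime_two
  haveI : M.IsPrime := hM.2.1.isPrime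
  haveI : Fintype (Ha C) := Fintype.ofFinite _
  haveI : Fintype (NU C) := Fintype.ofFinite _
  letI := irrFintype (G := Ha C)
  have ha2 : orderOf C.a = 2 ^ 1 := by rw [pow_one, C.orderOf_a]
  set good := univ.filter (fun ξ : IrrCharacter (Ha C) =>
    IsInducedBlock M (Ha C) (blockOf M (ξ : Ha C → ℂ)) (blockOf M (χ : G → ℂ))) with hgood
  set m : IrrCharacter (Ha C) → ℂ := fun ξ =>
    classInner (fun c : Ha C => (χ : G → ℂ) (C.a * (c : G))) (ξ : Ha C → ℂ)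
  let Ξ : IrrCharacter (Ha C) → G → ℂ := fun ξ g =>
    if hg : g ∈ C.H then (ξ : Ha C → ℂ) ⟨g, hg⟩ else 0
  have hΞ : ∀ (ξ : IrrCharacter (Ha C)) (h : Ha C), (h : G) ∈ C.U →
      Ξ ξ h = (ξ : Ha C → ℂ) h := fun ξ h _ => dif_pos (show (h : G) ∈ C.H from h.2)
  have hexp : ∀ x ∈ C.U, (χ : G → ℂ) (C.a * x) = ∑ ξ ∈ good, m ξ * Ξ ξ x := by
    intro x hx
    have h := section_expansion hM ha2 χ (⟨x, C.U_le_H hx⟩ : Ha C) (by
      rw [← Subgroup.orderOf_coe]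
      exact Nat.two_dvd_ne_zero.2 (Nat.odd_iff.1 (odd_orderOf C.odd_U hx)))
    rw [h]
    refine sum_congr rfl fun ξ _ => ?_
    rw [hΞ ξ ⟨x, C.U_le_H hx⟩ hx]
  obtain ⟨η, hη, hne⟩ : ∃ η ∈ good, ∑ x ∈ C.Uf, psi hI β x⁻¹ * Ξ η x ≠ 0 := by
    by_contra hall
    push Not at hall
    refine hc ?_
    rw [coef, sum_congr rfl fun x hx => by rw [hexp x (mem_Uf.1 hx), sum_mul], sum_comm,
      sum_eq_zero, mul_zero]
    intro ξ hξ
    rw [sum_congr rfl fun x _ => show m ξ * Ξ ξ x * psi hI β x⁻¹ =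
      m ξ * (psi hI β x⁻¹ * Ξ ξ x) by ring, ← mul_sum, hall ξ hξ, mul_zero]
  have hηU := eq_psi_of_sum_ne_zero hI β η (Ξ η) (hΞ η) hne
  suffices hs : ∀ s : Finset (IrrCharacter (Ha C)), s ⊆ good →
      ∃ k₀ k₁ k₂ : ℂ, ∀ x ∈ C.U, ∑ ξ ∈ s, m ξ * Ξ ξ x =
        k₀ * psi hI β x + k₁ * psi hI (rot1 β) x + k₂ * psi hI (rot2 β) x by
    obtain ⟨k₀, k₁, k₂, hk⟩ := hs good Subset.rfl
    exact ⟨k₀, k₁, k₂, fun x hx => (hexp x hx).trans (hk x hx)⟩
  intro s
  induction s using Finset.induction_on with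
  | empty => exact fun _ => ⟨0, 0, 0, fun x _ => by simp⟩
  | @insert ξ s hξs ih =>
    intro hs
    obtain ⟨k₀, k₁, k₂, hk⟩ := ih fun z hz => hs (mem_insert_of_mem hz)
    have hξ := hs (mem_insert_self ξ s)
    rw [hgood, mem_filter] at hξ hη
    obtain ⟨β', hβ', hval⟩ := induced_values hI β hM hηU hη.2 hξ.2
    have hv : ∀ x ∈ C.U, Ξ ξ x = (ξ : Ha C → ℂ) 1 * psi hI β' x := fun x hx => by
      rw [hΞ ξ ⟨x, C.U_le_H hx⟩ hx]; exact hval _ hx
    rcases hβ' with rfl | rfl | rfl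
    · exact ⟨k₀ + m ξ * (ξ : Ha C → ℂ) 1, k₁, k₂, fun x hx => by
        rw [sum_insert hξs, hk x hx, hv x hx]; ring⟩
    · exact ⟨k₀, k₁ + m ξ * (ξ : Ha C → ℂ) 1, k₂, fun x hx => by
        rw [sum_insert hξs, hk x hx, hv x hx]; ring⟩
    · exact ⟨k₀, k₁, k₂ + m ξ * (ξ : Ha C → ℂ) 1, fun x hx => by
        rw [sum_insert hξs, hk x hx, hv x hx]; ring⟩

theorem rot2_rot1 : rot1 (rot2 β) = β := MonoidHom.ext fun d => rot_three β d

theorem rot1_eq_of_rot2 (h : rot2 β = β) : rot1 β = β := by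
  conv_rhs => rw [← rot2_rot1 β, h]

theorem rot2_eq_of_rot1 (h : rot1 β = β) : rot2 β = β := by
  show rot1 (rot1 β) = β
  rw [h, h]

theorem rot1_ne_rot2 (h : rot1 β ≠ β) : rot2 β ≠ rot1 β := fun e => h (by
  have := rot2_rot1 β
  rw [e] at this
  conv_rhs => rw [← this]
  exact e.symm)

/-- Fixed case: the values on `a U`. -/
theorem values_fixed (χ : IrrCharacter G) (hc : coef hI β (χ : G → ℂ) ≠ 0) (h : rot1 β = β) :
    ∀ x ∈ C.U, (χ : G → ℂ) (C.a * x) = coef hI β (χ : G → ℂ) * psi hI β x := by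
  classical
  obtain ⟨k₀, k₁, k₂, hk⟩ := exists_values hI β χ hc
  have h2 := rot2_eq_of_rot1 β h
  simp only [h2, h, ← add_mul] at hk
  have e : coef hI β (χ : G → ℂ) = k₀ + k₁ + k₂ := by
    rw [coef, sum_congr rfl fun x hx => by rw [hk x (mem_Uf.1 hx), mul_assoc, mul_comm (psi hI β x)],
      ← mul_sum, sum_psi_mul hI β β, if_pos rfl, mul_left_comm, inv_mul_cancel₀ card_U_ne_zero,
      mul_one]
  rw [e]; exact hk

/-- Moved case: the values on `a U`. -/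
theorem values_moved (χ : IrrCharacter G) (hc : coef hI β (χ : G → ℂ) ≠ 0) (h : rot1 β ≠ β) :
    ∀ x ∈ C.U, (χ : G → ℂ) (C.a * x) = coef hI β (χ : G → ℂ) * psi hI β x +
      coef hI (rot1 β) (χ : G → ℂ) * psi hI (rot1 β) x +
      coef hI (rot2 β) (χ : G → ℂ) * psi hI (rot2 β) x := by
  classical
  obtain ⟨k₀, k₁, k₂, hk⟩ := exists_values hI β χ hc
  have h2 : rot2 β ≠ β := fun e => h (rot1_eq_of_rot2 β e)
  have h12 := rot1_ne_rot2 β h
  have hproj : ∀ β' : C.D →* ℂˣ, coef hI β' (χ : G → ℂ) =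
      (if β' = β then k₀ else 0) + (if β' = rot1 β then k₁ else 0) +
        (if β' = rot2 β then k₂ else 0) := by
    intro β'
    rw [coef, sum_congr rfl fun x hx => show (χ : G → ℂ) (C.a * x) * psi hI β' x⁻¹ =
      k₀ * (psi hI β' x⁻¹ * psi hI β x) + k₁ * (psi hI β' x⁻¹ * psi hI (rot1 β) x) +
        k₂ * (psi hI β' x⁻¹ * psi hI (rot2 β) x) by rw [hk x (mem_Uf.1 hx)]; ring,
      sum_add_distrib, sum_add_distrib, ← mul_sum, ← mul_sum, ← mul_sum, sum_psi_mul hI β β',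
      sum_psi_mul hI (rot1 β) β', sum_psi_mul hI (rot2 β) β']
    have hU := card_U_ne_zero (C := C)
    split_ifs <;> field_simp <;> ring
  rw [hproj β, hproj (rot1 β), hproj (rot2 β)]
  simpa [h, h2, h12, Ne.symm h, Ne.symm h2, Ne.symm h12] using hk

theorem cosetSum_b_eq (χ : IrrCharacter G) [DecidablePred (· ∈ C.D)] :
    cosetSum hI β (χ : G → ℂ) C.b = (Nat.card C.U0 : ℂ) *
      ∑ d ∈ univ.filter (· ∈ C.D),
        (χ : G → ℂ) (C.a * (C.rho⁻¹ * d * C.rho)) * psi hI β d⁻¹ := by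
  classical
  set Φ : G → G → G := fun d y => y * (d * y * d⁻¹) * d
  have hmem : ∀ d ∈ C.D, ∀ y ∈ C.U0, y * (d * y * d⁻¹) ∈ C.U0 := fun d hd y hy =>
    mul_mem hy (conj_mem_U0 (C.U_le_H (C.D_le_U hd)) hy)
  have hinj : ∀ d ∈ C.D, ∀ y ∈ C.U0, ∀ y' ∈ C.U0,
      y * (d * y * d⁻¹) = y' * (d * y' * d⁻¹) → y = y' := by
    intro d hd y hy y' hy' h
    have hz : y'⁻¹ * y ∈ C.U0 := mul_mem (inv_mem hy') hy
    have hdy := conj_mem_U0 (C.U_le_H (C.D_le_U hd)) hy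
    have e : d * (y'⁻¹ * y) * d⁻¹ = (y'⁻¹ * y)⁻¹ := by
      refine eq_inv_of_mul_eq_one_right ?_
      calc y'⁻¹ * y * (d * (y'⁻¹ * y) * d⁻¹)
          = y'⁻¹ * (y * (d * y'⁻¹ * d⁻¹)) * (d * y * d⁻¹) := by group
        _ = y'⁻¹ * ((d * y'⁻¹ * d⁻¹) * y) * (d * y * d⁻¹) := by
          rw [(commute_U0 hI hy (conj_mem_U0 (C.U_le_H (C.D_le_U hd)) (inv_mem hy'))).eq]
        _ = y'⁻¹ * (d * y'⁻¹ * d⁻¹) * (y * (d * y * d⁻¹)) := by group
        _ = y'⁻¹ * (d * y'⁻¹ * d⁻¹) * (y' * (d * y' * d⁻¹)) := by rw [h]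
        _ = y'⁻¹ * ((d * y'⁻¹ * d⁻¹) * y') * (d * y' * d⁻¹) := by group
        _ = 1 := by
          rw [(commute_U0 hI (conj_mem_U0 (C.U_le_H (C.D_le_U hd)) (inv_mem hy')) hy').eq]
          group
    exact (inv_mul_eq_one.1 (CfsgLib.DGroup.eq_one_of_inverted (odd_orderOf C.odd_U (C.D_le_U hd))
      (odd_orderOf C.odd_U (C.U0_le_U hz)) e)).symm
  have hsurj : ∀ d ∈ C.D, ∀ z ∈ C.U0, ∃ y ∈ C.U0, y * (d * y * d⁻¹) = z := by
    intro d hd z hz
    have hinj' : Function.Injective (fun y : C.U0 => (⟨_, hmem d hd y y.2⟩ : C.U0)) :=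
      fun y y' h => Subtype.ext (hinj d hd y y.2 y' y'.2 (congrArg Subtype.val h))
    obtain ⟨⟨y, hy⟩, he⟩ := Finite.injective_iff_surjective.1 hinj' ⟨z, hz⟩
    exact ⟨y, hy, congrArg Subtype.val he⟩
  rw [cosetSum, Nat.card_eq_fintype_card, Fintype.card_subtype, mul_sum, sum_congr rfl
    (fun d _ => show ((univ.filter (· ∈ C.U0)).card : ℂ) *
      ((χ : G → ℂ) (C.a * (C.rho⁻¹ * d * C.rho)) * psi hI β d⁻¹) =
      ∑ _y ∈ univ.filter (· ∈ C.U0),
        (χ : G → ℂ) (C.a * (C.rho⁻¹ * d * C.rho)) * psi hI β d⁻¹ by rw [sum_const, nsmul_eq_mul]),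
    ← sum_product']
  refine (sum_bij (fun p _ => Φ p.1 p.2) (fun p hp => ?_) (fun p hp p' hp' h => ?_)
    (fun x hx => ?_) fun p hp => ?_).symm
  · simp only [mem_product, mem_filter, mem_univ, true_and] at hp
    exact mem_Uf.2 (mul_mem (C.U0_le_U (hmem _ hp.1 _ hp.2)) (C.D_le_U hp.1))
  · simp only [mem_product, mem_filter, mem_univ, true_and] at hp hp'
    have e : ∀ d z : G, z * d = d * (d⁻¹ * z * d) := fun d z => by group
    have h1 := hmem _ hp.1 _ hp.2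
    have h2 := hmem _ hp'.1 _ hp'.2
    simp only [Φ] at h
    rw [e p.1, e p'.1] at h
    obtain ⟨r1, r2⟩ := decomp_unique hI hp.1 hp'.1 (conj_mem_U0' (C.U_le_H (C.D_le_U hp.1)) h1)
      (conj_mem_U0' (C.U_le_H (C.D_le_U hp'.1)) h2) h
    refine Prod.ext r1 (hinj _ hp.1 _ hp.2 _ hp'.2 ?_)
    rw [← r1] at r2
    exact mul_left_cancel (mul_right_cancel r2)
  · obtain ⟨d, hd, z, hz, rfl⟩ := C.exists_mul_U0 (mem_Uf.1 hx)
    obtain ⟨y, hy, hyz⟩ := hsurj d hd _ (conj_mem_U0 (C.U_le_H (C.D_le_U hd)) hz)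
    refine ⟨(d, y), by simp [hd, hy], ?_⟩
    simp only [Φ]
    rw [hyz]; group
  · simp only [mem_product, mem_filter, mem_univ, true_and] at hp
    obtain ⟨hd, hy⟩ := hp
    have h1 := hmem _ hd _ hy
    have e1 : psi hI β (Φ p.1 p.2)⁻¹ = psi hI β p.1⁻¹ := by
      simp only [Φ]
      rw [mul_inv_rev, psi_mul hI β (inv_mem (C.D_le_U hd)) (inv_mem (C.U0_le_U h1)),
        psi_U0 hI β (inv_mem h1), mul_one]
    have e2 : (χ : G → ℂ) (Φ p.1 p.2 * C.b) = (χ : G → ℂ) (C.a * (C.rho⁻¹ * p.1 * C.rho)) := by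
      have e3 : Φ p.1 p.2 * C.b = p.2 * (p.1 * C.b) * p.2⁻¹ := by
        have hb := inverted_of_mem_U0 hI hy
        calc p.2 * (p.1 * p.2 * p.1⁻¹) * p.1 * C.b = p.2 * p.1 * (p.2 * C.b) := by group
          _ = p.2 * p.1 * (C.b * (C.b * p.2 * C.b)) := by
            rw [← mul_assoc C.b (C.b * p.2) C.b, ← mul_assoc C.b C.b, C.hb.1, one_mul]
          _ = _ := by rw [hb]; group
      rw [e3, isClassFunction_irr χ, ← isClassFunction_irr χ (p.1 * C.b) C.rho⁻¹,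
        classFun_mul_comm (isClassFunction_irr χ) C.a]
      rw [inv_inv]
      refine congrArg (χ : G → ℂ) ?_
      calc C.rho⁻¹ * (p.1 * C.b) * C.rho = C.rho⁻¹ * p.1 * C.rho * (C.rho⁻¹ * C.b * C.rho) := by
            group
        _ = C.rho⁻¹ * p.1 * C.rho * C.a := by rw [← C.rho_a]; group
    rw [e1, e2]

/-- Moved case: the coefficient and that of the second rotation have the same parity. -/
theorem coef_rot2_ne_zero (χ : IrrCharacter G) (hc : coef hI β (χ : G → ℂ) ≠ 0) (h : rot1 β ≠ β)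
    (hodd : ∀ z : ℤ, coef hI β (χ : G → ℂ) = z → ¬ (2 : ℤ) ∣ z) :
    coef hI (rot2 β) (χ : G → ℂ) ≠ 0 := by
  classical
  obtain ⟨z, w, hz, hw, hzw⟩ := exists_int hI β χ
  have hval := values_moved hI β χ hc h
  have h2 : rot2 β ≠ β := fun e => h (rot1_eq_of_rot2 β e)
  rw [cosetSum_b_eq hI β χ] at hw
  have e : ∑ d ∈ univ.filter (· ∈ C.D),
      (χ : G → ℂ) (C.a * (C.rho⁻¹ * d * C.rho)) * psi hI β d⁻¹ =
      coef hI (rot2 β) (χ : G → ℂ) * (Nat.card C.D : ℂ) := by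
    rw [sum_congr rfl fun d hd => show (χ : G → ℂ) (C.a * (C.rho⁻¹ * d * C.rho)) * psi hI β d⁻¹ =
      coef hI β (χ : G → ℂ) * (psi hI β d⁻¹ * psi hI (rot1 β) d) +
      coef hI (rot1 β) (χ : G → ℂ) * (psi hI β d⁻¹ * psi hI (rot2 β) d) +
      coef hI (rot2 β) (χ : G → ℂ) * (psi hI β d⁻¹ * psi hI β d) by
        obtain ⟨-, hd⟩ := mem_filter.1 hd
        rw [hval _ (C.D_le_U (rho_conj_D hd)), ← psi_rot1 hI β hd, ← psi_rot2 hI β hd,
          psi_rot3 hI β hd]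
        ring, sum_add_distrib, sum_add_distrib, ← mul_sum, ← mul_sum, ← mul_sum,
      sum_D_psi hI (rot1 β) β, sum_D_psi hI (rot2 β) β, sum_D_psi hI β β,
      if_neg (Ne.symm h), if_neg (Ne.symm h2), if_pos rfl]
    ring
  rw [e] at hw
  intro h0
  rw [h0, zero_mul, mul_zero, eq_comm, mul_eq_zero] at hw
  have hw0 : w = 0 := by exact_mod_cast hw.resolve_left card_U_ne_zero
  exact hodd z hz (by simpa [hw0] using hzw)

/-- Fixed case: the value at the involutions and the degree modulo four. -/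
theorem degree_cong (χ : IrrCharacter G) (hc : coef hI β (χ : G → ℂ) ≠ 0) (h : rot1 β = β) :
    ∃ z : ℤ, coef hI β (χ : G → ℂ) = z ∧ (χ : G → ℂ) C.a = z ∧
      (4 : ℤ) ∣ (charDegree (χ : G → ℂ) : ℤ) + 3 * z := by
  classical
  obtain ⟨z, -, hz, -, -⟩ := exists_int hI β χ
  have ha : (χ : G → ℂ) C.a = z := by
    have := values_fixed hI β χ hc h 1 (one_mem _)
    rwa [mul_one, psi_one, mul_one, hz] at this
  have hb : (χ : G → ℂ) C.b = z := by rw [← C.rho_a, isClassFunction_irr χ, ha]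
  have hc' : (χ : G → ℂ) C.c = z := by
    rw [show C.c = C.rho * C.b * C.rho⁻¹ from C.rho_b.symm, isClassFunction_irr χ, hb]
  haveI : Fintype C.V := Fintype.ofFinite _
  obtain ⟨n, hn⟩ := IsCharacter.exists_classInner_eq_natCast'
    (IsCharacter.restrict (isCharacter_irr χ) C.V) (CfsgLib.Char.isCharacter_one (G := C.V))
  rw [classInner, C.card_V] at hn
  simp only [map_one, mul_one] at hn
  rw [← sum_subtype (univ.filter (· ∈ C.V)) (fun x => by simp) (χ : G → ℂ), sum_V, ha, hb, hc',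
    (irr_one χ).1] at hn
  refine ⟨z, hz, ha, ⟨n, ?_⟩⟩
  have : (((charDegree (χ : G → ℂ) : ℤ) + 3 * z : ℤ) : ℂ) = ((4 * (n : ℤ) : ℤ) : ℂ) := by
    push_cast
    rw [← hn]
    push_cast
    ring
  exact_mod_cast this

end CfsgLib.GW.CaseI.Ctx
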